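import Mathlib
import Groth.Agent.DefSchLib.Fibre

/-! A morphism of lifts over a localisation of rings is a localisation. -/

set_option autoImplicit false
set_option linter.style.haveILetI false

universe u

open CategoryTheory AlgebraicGeometry IsLocalRing

namespace Groth.Agent.DefGlueLib

open ArtFun ArtFun.Art DefSchLib

theorem isLocalization_lift {Λ k : Type u} [CommRing Λ] [Field k] [Algebra Λ k] {B B' : Type u} [CommRing B] [Algebra k B] [CommRing B']
    [Algebra k B'] {A : Art Λ k} (D : RingDef B A) (D' : RingDef B' A) (φ : D.R →+* D'.R)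
    (hφs : ∀ a, φ (D.str a) = D'.str a) (ρ : B →+* B') (hρ : ∀ c, ρ (algebraMap k B c) = algebraMap k B' c)
    (hφπ : ∀ r, D'.π (φ r) = ρ (D.π r)) (r : D.R)
    (hloc : letI := ρ.toAlgebra; IsLocalization.Away (D.π r) B') :
    letI := φ.toAlgebra; IsLocalization.Away r D'.R := by
  letI := ρ.toAlgebra
  letI := φ.toAlgebra
  have hu : IsUnit (φ r) := by
    have h1 : IsUnit (D'.π (φ r)) := by
      rw [hφπ]
      exact IsLocalization.Away.algebraMap_isUnit (S := B') (D.π r)
    have hm : IsNilpotent (RingHom.ker D'.π) := by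
      rw [D'.ker_π]
      obtain ⟨n, hn⟩ := DefSchLib.maximalIdeal_isNilpotent A
      exact ⟨n, by rw [← Ideal.map_pow, hn, Ideal.zero_eq_bot, Ideal.map_bot]; rfl⟩
    obtain ⟨v, hv⟩ := D'.π_surjective ↑h1.unit⁻¹
    obtain ⟨n, hn⟩ := hm
    have h2 : IsNilpotent (1 - φ r * v) := ⟨n, by
      have : 1 - φ r * v ∈ RingHom.ker D'.π := by
        rw [RingHom.mem_ker, map_sub, map_one, map_mul, hv, IsUnit.mul_val_inv, sub_self]
      have := Ideal.pow_mem_pow this n
      rwa [hn, Ideal.zero_eq_bot, Ideal.mem_bot] at this⟩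
    have h3 := h2.isUnit_one_sub
    rw [sub_sub_cancel] at h3
    exact isUnit_of_mul_isUnit_left h3
  let L := Localization.Away r
  let ψ : L →+* D'.R := IsLocalization.Away.lift r (g := φ) hu
  have hψ : ∀ a, ψ (algebraMap D.R L a) = φ a := fun a => IsLocalization.Away.lift_eq r hu a
  let E : RingDef B' A :=
    { R := L
      str := (algebraMap D.R L).comp D.str
      flat := RingHom.Flat.comp D.flat (RingHom.flat_algebraMap_iff.mpr (IsLocalization.flat L (Submonoid.powers r)))
      π := D'.π.comp ψ
      π_surjective := fun b => by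
        obtain ⟨n, a, ha⟩ := IsLocalization.Away.surj (D.π r) b
        obtain ⟨a', rfl⟩ := D.π_surjective a
        obtain ⟨z, hz⟩ : ∃ z : L, z * algebraMap D.R L r ^ n = algebraMap D.R L a' :=
          ⟨algebraMap D.R L a' * ↑((IsLocalization.Away.algebraMap_isUnit (S := L) r).pow n).unit⁻¹, by
            rw [mul_assoc, IsUnit.val_inv_mul, mul_one]⟩
        refine ⟨z, (((IsLocalization.Away.algebraMap_isUnit (S := B') (D.π r)).pow n).mul_left_inj).mp ?_⟩
        refine Eq.trans ?_ ha.symm
        have h1 := congrArg (D'.π.comp ψ) hz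
        simp only [RingHom.comp_apply, map_mul, map_pow, hψ, hφπ] at h1
        exact h1
      π_str := fun a => by
        show D'.π (ψ (algebraMap D.R L (D.str a))) = _
        rw [hψ, hφs, D'.π_str]
      ker_π := by
        refine le_antisymm (fun z hz => ?_) ?_
        · obtain ⟨n, a, ha⟩ := IsLocalization.Away.surj r z
          have h0 : ρ (D.π a) = 0 := by
            have h1 := congrArg (D'.π.comp ψ) ha
            rw [map_mul, RingHom.mem_ker.mp hz, zero_mul, RingHom.comp_apply, hψ, hφπ] at h1
            exact h1.symm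
          obtain ⟨⟨_, m, rfl⟩, hm⟩ := (IsLocalization.map_eq_zero_iff (Submonoid.powers (D.π r)) B' _).mp h0
          have h2 : r ^ m * a ∈ (maximalIdeal A).map D.str := by
            rw [← D.ker_π, RingHom.mem_ker, map_mul, map_pow]
            exact hm
          have h3 := Ideal.mem_map_of_mem (algebraMap D.R L) h2
          rw [Ideal.map_map, map_mul, ← ha, map_pow, mul_comm, mul_assoc, ← pow_add] at h3
          exact (Ideal.mul_unit_mem_iff_mem _ ((IsLocalization.Away.algebraMap_isUnit r).pow _)).mp h3
        · rw [← Ideal.map_map]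
          refine (Ideal.map_mono D.ker_π.ge).trans (Ideal.map_le_iff_le_comap.mpr fun a ha => ?_)
          rw [Ideal.mem_comap, RingHom.mem_ker]
          show D'.π (ψ (algebraMap D.R L a)) = 0
          rw [hψ, hφπ, RingHom.mem_ker.mp ha, map_zero] }
  let h : DefSchLib.Hom (𝟙 A) E D' :=
    { φ := ψ
      φ_str := fun a => (hψ _).trans (hφs a)
      π_φ := fun _ => rfl }
  have hb : Function.Bijective ψ := h.toIso.e.bijective
  exact IsLocalization.isLocalization_of_algEquiv (Submonoid.powers r)
    (AlgEquiv.ofBijective (⟨ψ, hψ⟩ : L →ₐ[D.R] D'.R) hb)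

end Groth.Agent.DefGlueLib
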