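import Mathlib
import Groth.Agent.DefGlueLib.Loc
import Groth.Agent.LocHilbGlueLib.Scheme

/-! Deformations of a scheme given by rings on its affine opens. -/

set_option autoImplicit false
set_option backward.isDefEq.respectTransparency false
set_option backward.isDefEq.respectTransparency.types false
set_option linter.style.haveILetI false

universe u

open CategoryTheory CategoryTheory.Limits AlgebraicGeometry TopologicalSpace Opposite ArtFun ArtFun.Art IsLocalRing

noncomputable section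

namespace Groth.Agent.DefGlueLib

open LocHilbGlueLib

variable {Λ k : Type u} [CommRing Λ] [Field k] [Algebra Λ k] {X : Scheme.{u}}

/-- The functions on the affine opens. -/
abbrev oSite (X : Scheme.{u}) : X.AffineZariskiSiteᵒᵖ ⥤ CommRingCat.{u} :=
  (Scheme.AffineZariskiSite.toOpensFunctor X).op ⋙ X.presheaf

/-- A deformation given by rings on the affine opens. -/
structure Fam (x : X ⟶ specPt k) (A : Art Λ k) : Type (u + 1) where
  /-- the rings -/
  R : X.AffineZariskiSiteᵒᵖ ⥤ CommRingCat.{u}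
  /-- the structure maps -/
  str : ∀ U, CommRingCat.of A ⟶ R.obj U
  str_nat : ∀ {U V : X.AffineZariskiSiteᵒᵖ} (h : U ⟶ V), str U ≫ R.map h = str V
  /-- the reductions -/
  π : R ⟶ oSite X
  flat : ∀ U, (str U).hom.Flat
  π_surj : ∀ U, Function.Surjective (π.app U).hom
  π_str : ∀ U, str U ≫ π.app U = CommRingCat.ofHom A.res.toRingHom ≫ algR x U.unop.toOpens
  ker_π : ∀ U, RingHom.ker (π.app U).hom = (maximalIdeal A).map (str U).hom

/-- A morphism of families over a morphism of coefficients. -/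
structure FamHom {x : X ⟶ specPt k} {A B : Art Λ k} (g : A ⟶ B) (F : Fam x A) (G : Fam x B) : Type u where
  /-- the maps -/
  φ : F.R ⟶ G.R
  str : ∀ U, F.str U ≫ φ.app U = CommRingCat.ofHom g.toAlgHom.toRingHom ≫ G.str U
  π : φ ≫ G.π = F.π

/-- Restriction of functions between affine opens. -/
abbrev oMap {U V : X.AffineZariskiSite} (h : V ⟶ U) : Γ(X, U.toOpens) ⟶ Γ(X, V.toOpens) :=
  X.presheaf.map (homOfLE (Scheme.AffineZariskiSite.toOpens_mono h.le)).op

namespace Fam

variable {x : X ⟶ specPt k} {A : Art Λ k} (F : Fam x A)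

/-- The lift of the functions on one affine open. -/
def ring (U : X.AffineZariskiSiteᵒᵖ) :
    letI := algV x U.unop.toOpens
    DefSchLib.RingDef (Λ := Λ) Γ(X, U.unop.toOpens) A :=
  letI := algV x U.unop.toOpens
  { R := F.R.obj U
    str := (F.str U).hom
    flat := F.flat U
    π := (F.π.app U).hom
    π_surjective := F.π_surj U
    π_str := fun a => ConcreteCategory.congr_hom (F.π_str U) a
    ker_π := F.ker_π U }

theorem isNilpotent_ker (U : X.AffineZariskiSiteᵒᵖ) : IsNilpotent (RingHom.ker (F.π.app U).hom) := by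
  obtain ⟨n, hn⟩ := DefSchLib.maximalIdeal_isNilpotent A
  exact ⟨n, by rw [F.ker_π, ← Ideal.map_pow, hn, Ideal.zero_eq_bot, Ideal.map_bot]; rfl⟩

theorem π_nat {U V : X.AffineZariskiSite} (h : V ⟶ U) :
    F.R.map h.op ≫ F.π.app (op V) = F.π.app (op U) ≫ oMap h :=
  F.π.naturality h.op

theorem isLocalization {U V : X.AffineZariskiSite} (h : V ⟶ U) :
    ∃ r : F.R.obj (op U), letI := (F.R.map h.op).hom.toAlgebra; IsLocalization.Away r (F.R.obj (op V)) := by
  obtain ⟨f, hf⟩ := h.le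
  obtain ⟨r, hr⟩ := F.π_surj (op U) f
  letI := algV x U.toOpens
  letI := algV x V.toOpens
  refine ⟨r, isLocalization_lift (F.ring (op U)) (F.ring (op V)) (F.R.map h.op).hom
    (fun a => ConcreteCategory.congr_hom (F.str_nat h.op) a) (oMap h).hom (fun c => ?_)
    (fun s => ConcreteCategory.congr_hom (F.π_nat h) s) r ?_⟩
  · exact congrArg (fun g : CommRingCat.of k ⟶ Γ(X, V.toOpens) => g c)
      (show algR x U.toOpens ≫ oMap h = algR x V.toOpens by simp [algR, Scheme.Hom.appLE_map])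
  · show letI := (oMap h).hom.toAlgebra; IsLocalization.Away (show Γ(X, U.toOpens) from (F.π.app (op U)).hom r) Γ(X, V.toOpens)
    rw [hr]
    obtain ⟨V, hV⟩ := V
    change X.basicOpen f = V at hf
    subst hf
    exact U.2.isLocalization_basicOpen f

/-- The diagram of spectra. -/
abbrev diag : X.AffineZariskiSite ⥤ Scheme.{u} := F.R.rightOp ⋙ Scheme.Spec

instance isOpenImmersion_diag {U V : X.AffineZariskiSite} (h : V ⟶ U) : IsOpenImmersion (F.diag.map h) := by
  obtain ⟨r, hr⟩ := F.isLocalization h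
  letI := (F.R.map h.op).hom.toAlgebra
  exact IsOpenImmersion.of_isLocalization (S := F.R.obj (op V)) r

/-- The closed fibre in one chart. -/
def incl (U : X.AffineZariskiSite) : Spec Γ(X, U.toOpens) ⟶ F.diag.obj U := Spec.map (F.π.app (op U))

theorem incl_bijective (U : X.AffineZariskiSite) : Function.Bijective (F.incl U) := by
  refine ⟨(PrimeSpectrum.comap_injective_of_surjective _ (F.π_surj (op U))), fun P => ?_⟩
  have hle : RingHom.ker (F.π.app (op U)).hom ≤ P.asIdeal := fun a ha => by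
    obtain ⟨n, hn⟩ := F.isNilpotent_ker (op U)
    have h1 := Ideal.pow_mem_pow ha n
    rw [hn, Ideal.zero_eq_bot, Ideal.mem_bot] at h1
    exact P.2.mem_of_pow_mem n (h1 ▸ P.asIdeal.zero_mem)
  haveI := Ideal.map_isPrime_of_surjective (F.π_surj (op U)) hle
  refine ⟨⟨P.asIdeal.map (F.π.app (op U)).hom, inferInstance⟩, PrimeSpectrum.ext ?_⟩
  show Ideal.comap (F.π.app (op U)).hom (Ideal.map (F.π.app (op U)).hom P.asIdeal) = P.asIdeal
  rw [Ideal.comap_map_of_surjective' _ (F.π_surj (op U))]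
  exact sup_eq_left.mpr hle

theorem incl_nat {U V : X.AffineZariskiSite} (h : V ⟶ U) :
    Spec.map (oMap h) ≫ F.incl U = F.incl V ≫ F.diag.map h := by
  show _ = Spec.map _ ≫ Spec.map _
  rw [incl, ← Spec.map_comp, ← Spec.map_comp]
  exact congrArg Spec.map (F.π_nat h).symm

/-- The chart of an affine open. -/
abbrev fs (U : X.AffineZariskiSite) : Spec Γ(X, U.toOpens) ⟶ X := IsAffineOpen.fromSpec (U := U.toOpens) U.2

theorem range_fs (U : X.AffineZariskiSite) : Set.range (fs U) = (U.toOpens : Set X) :=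
  IsAffineOpen.range_fromSpec (U := U.toOpens) U.2

theorem fromSpec_nat {U V : X.AffineZariskiSite} (h : V ⟶ U) :
    Spec.map (oMap h) ≫ fs U = fs V :=
  IsAffineOpen.map_fromSpec (U := U.toOpens) U.2 V.2 _

theorem exists_common {U₁ U₂ : X.AffineZariskiSite} {p : X} (h₁ : p ∈ U₁.toOpens) (h₂ : p ∈ U₂.toOpens) :
    ∃ (W : X.AffineZariskiSite) (_ : W ⟶ U₁) (_ : W ⟶ U₂), p ∈ W.toOpens := by
  obtain ⟨f, g, e, hp⟩ := exists_basicOpen_le_affine_inter U₁.2 U₂.2 p ⟨h₁, h₂⟩
  exact ⟨U₁.basicOpen f, homOfLE (U₁.basicOpen_le f), homOfLE ⟨g, e.symm⟩, hp⟩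

theorem exists_map_eq {U₁ U₂ : X.AffineZariskiSite} {W : X.AffineZariskiSite} (h₁ : W ⟶ U₁) (h₂ : W ⟶ U₂)
    {z₁ : Spec Γ(X, U₁.toOpens)} {z₂ : Spec Γ(X, U₂.toOpens)} (e : fs U₁ z₁ = fs U₂ z₂)
    (hp : fs U₁ z₁ ∈ W.toOpens) :
    ∃ w, F.diag.map h₁ w = F.incl U₁ z₁ ∧ F.diag.map h₂ w = F.incl U₂ z₂ := by
  obtain ⟨z, hz⟩ : ∃ z, fs W z = fs U₁ z₁ := by
    rw [← Set.mem_range, range_fs]
    exact hp
  refine ⟨F.incl W z, ?_, ?_⟩
  · rw [← Scheme.Hom.comp_apply, ← incl_nat, Scheme.Hom.comp_apply]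
    congr 1
    apply (fs U₁).isOpenEmbedding.injective
    rw [← Scheme.Hom.comp_apply, fromSpec_nat, hz]
  · rw [← Scheme.Hom.comp_apply, ← incl_nat, Scheme.Hom.comp_apply]
    congr 1
    apply (fs U₂).isOpenEmbedding.injective
    rw [← Scheme.Hom.comp_apply, fromSpec_nat, hz, e]

instance locDir : (F.diag ⋙ Scheme.forget).IsLocallyDirected where
  cond {U₁ U₂ U} h₁ h₂ w₁ w₂ e := by
    obtain ⟨z₁, rfl⟩ := (F.incl_bijective U₁).2 w₁
    obtain ⟨z₂, rfl⟩ := (F.incl_bijective U₂).2 w₂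
    have e' : F.diag.map h₁ (F.incl U₁ z₁) = F.diag.map h₂ (F.incl U₂ z₂) := e
    rw [← Scheme.Hom.comp_apply, ← Scheme.Hom.comp_apply, ← incl_nat, ← incl_nat, Scheme.Hom.comp_apply,
      Scheme.Hom.comp_apply] at e'
    have e'' := congrArg (fs U) ((F.incl_bijective U).1 e')
    rw [← Scheme.Hom.comp_apply, ← Scheme.Hom.comp_apply, fromSpec_nat, fromSpec_nat] at e''
    have hm : ∀ (V : X.AffineZariskiSite) z, fs V z ∈ V.toOpens := fun V z => by
      have h : fs V z ∈ Set.range (fs V) := ⟨z, rfl⟩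
      rwa [range_fs] at h
    obtain ⟨W, f₁, f₂, hp⟩ := exists_common (hm U₁ z₁) (e'' ▸ hm U₂ z₂)
    obtain ⟨w, hw₁, hw₂⟩ := F.exists_map_eq f₁ f₂ e'' hp
    exact ⟨W, f₁, f₂, w, hw₁, hw₂⟩

end Fam

end Groth.Agent.DefGlueLib
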