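import Mathlib
import Groth.Agent.Thicken.Affine

/-! Affine opens along thickenings and an affine-local criterion for isomorphisms. -/

set_option autoImplicit false
set_option backward.isDefEq.respectTransparency false
set_option backward.isDefEq.respectTransparency.types false
set_option linter.style.haveILetI false

universe u

open CategoryTheory CategoryTheory.Limits AlgebraicGeometry TopologicalSpace Opposite

namespace Groth.Agent.DefGlueLib

theorem isAffineOpen_of_preimage {Y Z : Scheme.{u}} (t : Y ⟶ Z) [IsClosedImmersion t] (ht : Function.Surjective t)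
    {O : Z.Opens} (h : IsAffineOpen (t ⁻¹ᵁ O)) : IsAffineOpen O := by
  haveI : IsAffine (t ⁻¹ᵁ O).toScheme := h
  haveI : IsClosedImmersion (t ∣_ O) := IsZariskiLocalAtTarget.restrict (P := @IsClosedImmersion) inferInstance O
  refine Thicken.isAffine (t ∣_ O) fun z => ?_
  obtain ⟨y, hy⟩ := ht (O.ι z)
  refine ⟨⟨y, by show t y ∈ O; rw [hy]; exact z.2⟩, Subtype.ext ?_⟩
  rw [morphismRestrict_base]
  exact hy

theorem isIso_of_affine {Y Z : Scheme.{u}} (h : Y ⟶ Z)
    (H : ∀ z : Z, ∃ U : Z.Opens, z ∈ U ∧ IsAffineOpen U ∧ IsAffineOpen (h ⁻¹ᵁ U) ∧ IsIso (h.app U)) : IsIso h := by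
  choose U hz hU hhU hiso using H
  have hcov : iSup U = ⊤ := top_unique fun z _ => Opens.mem_iSup.mpr ⟨z, hz z⟩
  refine (IsZariskiLocalAtTarget.iff_of_iSup_eq_top (P := MorphismProperty.isomorphisms Scheme.{u}) U hcov).mpr
    fun z => ?_
  haveI : IsAffine (U z).toScheme := hU z
  haveI : IsAffine (h ⁻¹ᵁ U z).toScheme := hhU z
  haveI : IsIso (h ∣_ U z).appTop := by
    rw [morphismRestrict_appTop]
    have key : ∀ V, V = U z → IsIso (h.app V) := fun V e => e ▸ hiso z
    haveI := key _ (Scheme.Opens.ι_image_top (U z))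
    infer_instance
  exact (HasAffineProperty.iff_of_isAffine (P := MorphismProperty.isomorphisms Scheme.{u}) (f := h ∣_ U z)).2
    ⟨inferInstance, inferInstance⟩

end Groth.Agent.DefGlueLib
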