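import Mathlib
import Groth.Agent.DefGlueLib.Fam
import Groth.Agent.DefGlueLib.Iso

/-! Gluing deformations given on affine opens. -/

set_option autoImplicit false
set_option backward.isDefEq.respectTransparency false
set_option backward.isDefEq.respectTransparency.types false
set_option linter.style.haveILetI false

universe u

open CategoryTheory CategoryTheory.Limits AlgebraicGeometry TopologicalSpace Opposite ArtFun ArtFun.Art IsLocalRing

noncomputable section

namespace Groth.Agent.DefGlueLib

open LocHilbGlueLib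

variable {Λ k : Type u} [CommRing Λ] [Field k] [Algebra Λ k] {X : Scheme.{u}}

theorem specMap_algR (x : X ⟶ specPt k) (U : X.AffineZariskiSite) :
    Spec.map (algR x U.toOpens) = Fam.fs U ≫ x := by
  rw [Fam.fs, ← IsAffineOpen.SpecMap_appLE_fromSpec x (isAffineOpen_top _) U.2 le_top, algR, Spec.map_comp]
  congr 1
  rw [IsAffineOpen.fromSpec_top, Scheme.isoSpec_Spec_inv]

namespace Fam

variable {x : X ⟶ specPt k} {A : Art Λ k} (F : Fam x A)

/-- One chart over the base. -/
def toSpec (U : X.AffineZariskiSite) : F.diag.obj U ⟶ spec A := Spec.map (F.str (op U))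

theorem diag_toSpec {U V : X.AffineZariskiSite} (h : V ⟶ U) : F.diag.map h ≫ F.toSpec U = F.toSpec V := by
  show Spec.map _ ≫ Spec.map _ = Spec.map _
  rw [← Spec.map_comp]
  exact congrArg Spec.map (F.str_nat h.op)

/-- The cocone to the base. -/
def specCocone : Cocone F.diag where
  pt := spec A
  ι :=
    { app := F.toSpec
      naturality := fun V U h => by
        simpa using F.diag_toSpec h }

/-- The glued scheme. -/
def total : Scheme.{u} := colimit F.diag

/-- The charts. -/
def ι (U : X.AffineZariskiSite) : F.diag.obj U ⟶ F.total := colimit.ι F.diag U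

instance isOpenImmersion_ι (U : X.AffineZariskiSite) : IsOpenImmersion (F.ι U) := by
  delta ι total
  infer_instance

/-- The structure map of the glued scheme. -/
def f : F.total ⟶ spec A := colimit.desc F.diag F.specCocone

theorem ι_f (U : X.AffineZariskiSite) : F.ι U ≫ F.f = F.toSpec U := colimit.ι_desc _ _

theorem w_ι {U V : X.AffineZariskiSite} (h : V ⟶ U) : F.diag.map h ≫ F.ι U = F.ι V := colimit.w _ _

theorem exists_ι (z : F.total) : ∃ (U : X.AffineZariskiSite) (w : F.diag.obj U), F.ι U w = z :=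
  Scheme.IsLocallyDirected.ι_jointly_surjective F.diag z

theorem flat_f : Flat F.f := by
  refine IsZariskiLocalAtSource.of_openCover (P := @Flat) (Scheme.IsLocallyDirected.openCover F.diag) fun U => ?_
  show Flat (F.ι U ≫ F.f)
  rw [ι_f]
  exact (HasRingHomProperty.Spec_iff (P := @Flat)).mpr (F.flat (op U))

/-- The cocone giving the closed fibre. -/
def inclCocone : Cocone (Scheme.AffineZariskiSite.toOpensFunctor X ⋙ X.presheaf.rightOp ⋙ Scheme.Spec) where
  pt := F.total
  ι :=
    { app := fun U => F.incl U ≫ F.ι U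
      naturality := fun V U h => by
        show Spec.map (oMap h) ≫ F.incl U ≫ F.ι U = (F.incl V ≫ F.ι V) ≫ 𝟙 _
        rw [Category.comp_id, ← Category.assoc, incl_nat, Category.assoc, w_ι] }

/-- The closed fibre. -/
def i : X ⟶ F.total := (Scheme.AffineZariskiSite.isColimitCocone X).desc F.inclCocone

theorem fs_i (U : X.AffineZariskiSite) : fs U ≫ F.i = F.incl U ≫ F.ι U :=
  (Scheme.AffineZariskiSite.isColimitCocone X).fac F.inclCocone U

theorem hom_ext_fs {Y : Scheme.{u}} {a b : X ⟶ Y} (h : ∀ U, fs U ≫ a = fs U ≫ b) : a = b :=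
  (Scheme.AffineZariskiSite.isColimitCocone X).hom_ext h

theorem exists_fs (p : X) : ∃ (U : X.AffineZariskiSite) (z : Spec Γ(X, U.toOpens)), fs U z = p := by
  obtain ⟨_, ⟨V, hV, rfl⟩, hp, -⟩ := X.isBasis_affineOpens.exists_subset_of_mem_open (Set.mem_univ p) isOpen_univ
  refine ⟨⟨V, hV⟩, ?_⟩
  rw [← Set.mem_range, range_fs]
  exact hp

theorem preimage_opensRange (U : X.AffineZariskiSite) : F.i ⁻¹ᵁ (F.ι U).opensRange = U.toOpens := by
  ext p
  show F.i p ∈ Set.range (F.ι U) ↔ p ∈ U.toOpens
  constructor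
  · rintro ⟨w, hw⟩
    obtain ⟨V, z, rfl⟩ := exists_fs p
    rw [← Scheme.Hom.comp_apply, fs_i, Scheme.Hom.comp_apply] at hw
    obtain ⟨W, fU, fV, y, -, hyV⟩ := (Scheme.IsLocallyDirected.ι_eq_ι_iff F.diag).mp hw
    obtain ⟨z', rfl⟩ := (F.incl_bijective W).2 y
    rw [← Scheme.Hom.comp_apply, ← incl_nat, Scheme.Hom.comp_apply] at hyV
    rw [← (F.incl_bijective V).1 hyV, ← Scheme.Hom.comp_apply, fromSpec_nat]
    have h : fs W z' ∈ Set.range (fs W) := ⟨z', rfl⟩
    rw [range_fs] at h
    exact Scheme.AffineZariskiSite.toOpens_mono fU.le h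
  · intro hp
    obtain ⟨z, rfl⟩ : ∃ z, fs U z = p := by
      rw [← Set.mem_range, range_fs]
      exact hp
    exact ⟨F.incl U z, by rw [← Scheme.Hom.comp_apply, ← fs_i, Scheme.Hom.comp_apply]⟩

theorem isPullback_fs (U : X.AffineZariskiSite) : IsPullback (F.incl U) (fs U) (F.ι U) F.i := by
  refine IsOpenImmersion.isPullback _ _ _ _ (F.fs_i U) ?_
  rw [preimage_opensRange]
  exact (Opens.ext (range_fs U)).symm

theorem isPullback_chart (U : X.AffineZariskiSite) :
    IsPullback (F.incl U) (Spec.map (algR x U.toOpens)) (F.toSpec U) (specRes A) :=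
  letI := algV x U.toOpens
  (isPullback_SpecMap_of_isPushout _ _ _ _ (F.ring (op U)).isPushout)

theorem i_f : F.i ≫ F.f = x ≫ specRes A := by
  refine hom_ext_fs fun U => ?_
  rw [← Category.assoc, fs_i, Category.assoc, ι_f, ← Category.assoc, ← specMap_algR]
  exact (F.isPullback_chart U).w

theorem isPullback : IsPullback F.i x F.f (specRes A) := by
  let P := pullback F.f (specRes A)
  let p₁ : P ⟶ F.total := pullback.fst _ _
  let h : X ⟶ P := pullback.lift F.i x F.i_f
  have hi : h ≫ p₁ = F.i := pullback.lift_fst _ _ _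
  haveI : IsClosedImmersion (specRes A) := IsClosedImmersion.spec_of_surjective _ A.res_surjective
  haveI : IsClosedImmersion p₁ := MorphismProperty.pullback_fst _ _ inferInstance
  let c := fun U : X.AffineZariskiSite => fs U ≫ h
  have hc : ∀ U, IsPullback (c U) (F.incl U) p₁ (F.ι U) := fun U => by
    refine IsPullback.of_right ?_ ?_ (IsPullback.of_hasPullback F.f (specRes A)).flip
    · rw [F.ι_f]
      convert (F.isPullback_chart U).flip using 1
      simp [c, h, specMap_algR]
    · rw [Category.assoc, hi, fs_i]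
  have hco : ∀ U, IsOpenImmersion (c U) := fun U =>
    MorphismProperty.of_isPullback (P := @IsOpenImmersion) (hc U).flip inferInstance
  have hrange : ∀ U, h ⁻¹ᵁ (c U).opensRange = U.toOpens := fun U => by
    have hr : (c U).opensRange = p₁ ⁻¹ᵁ (F.ι U).opensRange := Opens.ext (by
      show Set.range (c U) = p₁ ⁻¹' Set.range (F.ι U)
      rw [← (hc U).isoPullback_hom_fst, Scheme.Hom.comp_base, TopCat.coe_comp, Set.range_comp,
        Set.range_eq_univ.mpr (hc U).isoPullback.hom.surjective, Set.image_univ]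
      exact Scheme.Pullback.range_fst _ _)
    rw [hr, ← Scheme.Hom.comp_preimage, hi, preimage_opensRange]
  have hcov : ∀ y : P, ∃ U, y ∈ Set.range (c U) := fun y => by
    obtain ⟨U, w, hw⟩ := F.exists_ι (p₁ y)
    obtain ⟨z, hz⟩ := (F.incl_bijective U).2 w
    refine ⟨U, z, p₁.isClosedEmbedding.injective ?_⟩
    rw [← hw, ← hz, ← Scheme.Hom.comp_apply, (hc U).w, Scheme.Hom.comp_apply]
  haveI : IsIso h := by
    refine (IsZariskiLocalAtTarget.iff_of_openCover (P := MorphismProperty.isomorphisms Scheme.{u})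
      (Scheme.Cover.mkOfCovers (J := X.AffineZariskiSite) (fun U => Spec Γ(X, U.toOpens)) c
        (fun y => (hcov y).imp fun U ⟨z, hz⟩ => ⟨z, hz⟩) hco)).mpr fun U => ?_
    haveI := hco U
    have hp : IsPullback (fs U) (𝟙 _) h (c U) := by
      refine (IsOpenImmersion.isPullback (𝟙 _) (fs U) (c U) h (by simp [c]) ?_).flip
      rw [hrange]
      exact (Opens.ext (range_fs U)).symm
    show IsIso (pullback.snd h (c U))
    rw [show pullback.snd h (c U) = hp.isoPullback.inv from by rw [← hp.isoPullback_inv_snd, Category.comp_id]]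
    infer_instance
  exact IsPullback.of_iso (IsPullback.of_hasPullback F.f (specRes A)) (asIso h).symm (Iso.refl _) (Iso.refl _)
    (Iso.refl _) (by simp [h, p₁]) (by simp [h]) (by simp) (by simp)

/-- The glued deformation. -/
def glue : DefSch X x A where
  total := F.total
  f := F.f
  flat := F.flat_f
  i := F.i
  isPullback := F.isPullback

end Fam

namespace FamHom

variable {x : X ⟶ specPt k} {A B : Art Λ k} {g : A ⟶ B} {F : Fam x A} {G : Fam x B} (m : FamHom g F G)

/-- The cocone of a morphism of families. -/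
def cocone : Cocone G.diag where
  pt := F.total
  ι :=
    { app := fun U => Spec.map (m.φ.app (op U)) ≫ F.ι U
      naturality := fun V U h => by
        show Spec.map _ ≫ Spec.map _ ≫ F.ι U = (Spec.map _ ≫ F.ι V) ≫ 𝟙 _
        rw [Category.comp_id, ← Category.assoc, ← Spec.map_comp]
        refine Eq.trans ?_ (congrArg (Spec.map (m.φ.app (op V)) ≫ ·) (F.w_ι h))
        rw [← Category.assoc]
        refine congrArg (· ≫ F.ι U) ((congrArg Spec.map ?_).trans (Spec.map_comp _ _))
        exact (m.φ.naturality h.op).symm }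

/-- The map of glued schemes. -/
def map : G.total ⟶ F.total := colimit.desc G.diag m.cocone

theorem ι_map (U : X.AffineZariskiSite) : G.ι U ≫ m.map = Spec.map (m.φ.app (op U)) ≫ F.ι U := colimit.ι_desc _ _

theorem map_f : m.map ≫ F.f = G.f ≫ specMap g := by
  refine colimit.hom_ext fun U => ?_
  show G.ι U ≫ _ = G.ι U ≫ _
  rw [← Category.assoc, ι_map, Category.assoc, Fam.ι_f, ← Category.assoc, Fam.ι_f]
  show Spec.map _ ≫ Spec.map _ = Spec.map _ ≫ Spec.map _
  rw [← Spec.map_comp, ← Spec.map_comp]
  exact congrArg Spec.map (m.str (op U))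

theorem i_map : G.i ≫ m.map = F.i := by
  refine Fam.hom_ext_fs fun U => ?_
  rw [← Category.assoc, Fam.fs_i, Fam.fs_i, Category.assoc, ι_map, ← Category.assoc]
  refine congrArg (· ≫ F.ι U) ?_
  show Spec.map _ ≫ Spec.map _ = Spec.map _
  rw [← Spec.map_comp]
  exact congrArg Spec.map (congrArg (fun t => t.app (op U)) m.π)

end FamHom

end Groth.Agent.DefGlueLib
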