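import Mathlib
import Groth.Agent.DefGlueLib.Glue
import Groth.Agent.RigidLib.Sch

/-! Families on affine opens from deformations, and morphisms of deformations. -/

set_option autoImplicit false
set_option backward.isDefEq.respectTransparency false
set_option backward.isDefEq.respectTransparency.types false
set_option linter.style.haveILetI false

universe u

open CategoryTheory CategoryTheory.Limits AlgebraicGeometry TopologicalSpace Opposite ArtFun ArtFun.Art IsLocalRing

noncomputable section

namespace Groth.Agent.DefGlueLib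

open LocHilbGlueLib RigidLib

variable {Λ k : Type u} [CommRing Λ] [Field k] [Algebra Λ k] {X : Scheme.{u}} {x : X ⟶ specPt k} {A B C : Art Λ k}

section Opens

variable (ξ : DefSch X x A)

theorem i_bijective : Function.Bijective ξ.i := by
  haveI := isClosedImmersion_i ξ
  exact ⟨ξ.i.isClosedEmbedding.injective, (surjective_i ξ).surj⟩

/-- The open of the total space over an open of the closed fibre. -/
def imU (V : X.Opens) : ξ.total.Opens := ⟨ξ.i '' V, by
  haveI := isClosedImmersion_i ξ
  rw [← isClosed_compl_iff, ← Set.image_compl_eq (i_bijective ξ)]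
  exact ξ.i.isClosedEmbedding.isClosedMap _ V.2.isClosed_compl⟩

theorem preimage_imU (V : X.Opens) : ξ.i ⁻¹ᵁ imU ξ V = V :=
  Opens.ext (Set.preimage_image_eq _ (i_bijective ξ).1)

theorem eq_imU (O : ξ.total.Opens) : imU ξ (ξ.i ⁻¹ᵁ O) = O :=
  Opens.ext (Set.image_preimage_eq _ (i_bijective ξ).2)

theorem imU_mono : Monotone (imU ξ) := fun _ _ h => Set.image_mono h

theorem isAffineOpen_imU {V : X.Opens} (hV : IsAffineOpen V) : IsAffineOpen (imU ξ V) := by
  haveI := isClosedImmersion_i ξ
  exact isAffineOpen_of_preimage ξ.i (i_bijective ξ).2 ((preimage_imU ξ V).symm ▸ hV)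

/-- The opens over the affine opens. -/
def imFunctor : X.AffineZariskiSite ⥤ ξ.total.Opens :=
  Scheme.AffineZariskiSite.toOpensFunctor X ⋙ (imU_mono ξ).functor

/-- The closed fibre on the functions. -/
def piU (V : X.Opens) : Γ(ξ.total, imU ξ V) ⟶ Γ(X, V) := ξ.i.appLE (imU ξ V) V (preimage_imU ξ V).ge

theorem piU_eq (V : X.Opens) :
    piU ξ V = ξ.i.app (imU ξ V) ≫ X.presheaf.map (eqToHom (preimage_imU ξ V).symm).op := rfl

theorem strU_appLE {Y : Scheme.{u}} (h : Y ⟶ ξ.total) (U : ξ.total.Opens) (W : Y.Opens) (e : W ≤ h ⁻¹ᵁ U) :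
    strU ξ U ≫ h.appLE U W e = (Scheme.ΓSpecIso (CommRingCat.of A)).inv ≫ (h ≫ ξ.f).appLE ⊤ W le_top := by
  simp [strU, Scheme.Hom.appLE_comp_appLE]

theorem specMap_strU {U : ξ.total.Opens} (hU : IsAffineOpen U) : Spec.map (strU ξ U) = hU.fromSpec ≫ ξ.f := by
  rw [← IsAffineOpen.SpecMap_appLE_fromSpec ξ.f (isAffineOpen_top _) hU le_top, strU, Spec.map_comp]
  congr 1
  rw [IsAffineOpen.fromSpec_top, Scheme.isoSpec_Spec_inv]

/-- The family of a deformation. -/
def toFam : Fam x A where
  R := (imFunctor ξ).op ⋙ ξ.total.presheaf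
  str U := strU ξ (imU ξ U.unop.toOpens)
  str_nat h := by simp [strU, imFunctor, Scheme.Hom.appLE_map]; rfl
  π :=
    { app := fun U => piU ξ U.unop.toOpens
      naturality := fun U V h => by
        show ξ.total.presheaf.map _ ≫ ξ.i.appLE _ _ _ = ξ.i.appLE _ _ _ ≫ X.presheaf.map _
        erw [Scheme.Hom.map_appLE, Scheme.Hom.appLE_map]
        rfl }
  flat U := RingHom.Flat.comp (RingHom.Flat.of_bijective
    (ConcreteCategory.bijective_of_isIso (Scheme.ΓSpecIso (CommRingCat.of A)).inv))
    (ξ.f.flat_appLE (isAffineOpen_top _) (isAffineOpen_imU ξ U.unop.2) le_top)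
  π_surj U := by
    have h1 := DefSchLib.surjective_ker_of_isPushout (isPushout_str ξ (isAffineOpen_imU ξ U.unop.2)) A.res_surjective
    show Function.Surjective (piU ξ U.unop.toOpens).hom
    rw [piU_eq, CommRingCat.hom_comp, RingHom.coe_comp]
    exact (ConcreteCategory.bijective_of_isIso (X.presheaf.map (eqToHom (preimage_imU ξ _).symm).op)).2.comp h1.1
  π_str U := by
    show strU ξ _ ≫ piU ξ _ = _
    rw [piU, strU_appLE, ξ.i_f]
    simp only [algR]
    rw [← Category.assoc (CommRingCat.ofHom _), Scheme.ΓSpecIso_inv_naturality, Category.assoc]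
    congr 1
  ker_π U := by
    have h1 := DefSchLib.surjective_ker_of_isPushout (isPushout_str ξ (isAffineOpen_imU ξ U.unop.2)) A.res_surjective
    show RingHom.ker (piU ξ _).hom = _
    rw [piU_eq, CommRingCat.hom_comp, RingHom.ker_comp_of_injective _
      (ConcreteCategory.bijective_of_isIso (X.presheaf.map (eqToHom (preimage_imU ξ _).symm).op)).1]
    exact h1.2.trans (congrArg _ (DefSchLib.RingDef.ker_res A))

end Opens

/-- A morphism of deformations over a morphism of the coefficients. -/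
structure Mor (g : A ⟶ B) (ξ : DefSch X x A) (η : DefSch X x B) : Type u where
  /-- the map -/
  ψ : η.total ⟶ ξ.total
  w : ψ ≫ ξ.f = η.f ≫ specMap g
  i : η.i ≫ ψ = ξ.i

namespace Mor

variable {g : A ⟶ B} {h : B ⟶ C} {ξ : DefSch X x A} {η : DefSch X x B} {ζ : DefSch X x C}

/-- Composition. -/
def comp (m : Mor g ξ η) (n : Mor h η ζ) : Mor (g ≫ h) ξ ζ where
  ψ := n.ψ ≫ m.ψ
  w := by rw [Category.assoc, m.w, ← Category.assoc, n.w, Category.assoc, specMap_comp]
  i := by rw [← Category.assoc, n.i, m.i]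

/-- The projection of a base change. -/
def baseChange (ξ : DefSch X x A) (g : A ⟶ B) : Mor g ξ (ξ.baseChange g) where
  ψ := pullback.fst ξ.f (specMap g)
  w := pullback.condition
  i := DefSch.baseChange_i_fst ξ g

/-- An isomorphism as a morphism over the identity. -/
def ofIso {ξ' : DefSch X x A} (e : ξ'.Iso ξ) : Mor (𝟙 A) ξ ξ' where
  ψ := e.iso.hom
  w := by rw [e.hom_f, specMap_id, Category.comp_id]
  i := e.i_hom

theorem preimage_imU (m : Mor g ξ η) (V : X.Opens) : m.ψ ⁻¹ᵁ imU ξ V = imU η V := by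
  rw [← eq_imU η (m.ψ ⁻¹ᵁ imU ξ V), ← Scheme.Hom.comp_preimage, m.i, DefGlueLib.preimage_imU]

/-- The morphism of families. -/
def toFam (m : Mor g ξ η) : FamHom g (DefGlueLib.toFam ξ) (DefGlueLib.toFam η) where
  φ :=
    { app := fun U => m.ψ.appLE (imU ξ U.unop.toOpens) (imU η U.unop.toOpens) (m.preimage_imU _).ge
      naturality := fun U V h => by
        show ξ.total.presheaf.map _ ≫ m.ψ.appLE _ _ _ = m.ψ.appLE _ _ _ ≫ η.total.presheaf.map _
        erw [Scheme.Hom.map_appLE, Scheme.Hom.appLE_map]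
        rfl }
  str U := by
    show strU ξ _ ≫ m.ψ.appLE _ _ _ = _ ≫ strU η _
    rw [strU_appLE, m.w]
    simp only [strU]
    rw [← Category.assoc (CommRingCat.ofHom _), Scheme.ΓSpecIso_inv_naturality, Category.assoc]
    congr 1
  π := by
    refine NatTrans.ext (funext fun U => ?_)
    show m.ψ.appLE _ _ _ ≫ piU η _ = piU ξ _
    simp [piU, Scheme.Hom.appLE_comp_appLE, m.i]

end Mor

/-- A morphism of families in one chart. -/
def FamHom.hom {g : A ⟶ B} {F : Fam x A} {G : Fam x B} (m : FamHom g F G) (U : X.AffineZariskiSiteᵒᵖ) :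
    letI := algV x U.unop.toOpens
    DefSchLib.Hom g (F.ring U) (G.ring U) :=
  letI := algV x U.unop.toOpens
  { φ := (m.φ.app U).hom
    φ_str := fun a => ConcreteCategory.congr_hom (m.str U) a
    π_φ := fun r => ConcreteCategory.congr_hom (congrArg (fun t : F.R ⟶ oSite X => t.app U) m.π) r }

theorem FamHom.bijective {F G : Fam x A} (m : FamHom (𝟙 A) F G) (U : X.AffineZariskiSiteᵒᵖ) :
    Function.Bijective (m.φ.app U).hom :=
  letI := algV x U.unop.toOpens
  show Function.Bijective (m.hom U).φ from by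
    have h := (m.hom U).toIso.e.bijective
    exact h

namespace Mor

variable {g : A ⟶ B} {ξ ξ' : DefSch X x A} {η : DefSch X x B}

theorem isIso (m : Mor (𝟙 A) ξ ξ') : IsIso m.ψ := by
  haveI := isClosedImmersion_i ξ
  haveI := isClosedImmersion_i ξ'
  refine isIso_of_affine m.ψ fun z => ?_
  obtain ⟨w, rfl⟩ := (i_bijective ξ).2 z
  obtain ⟨_, ⟨V, hV, rfl⟩, hw, -⟩ := X.isBasis_affineOpens.exists_subset_of_mem_open (Set.mem_univ w) isOpen_univ
  refine ⟨imU ξ V, ⟨w, hw, rfl⟩, isAffineOpen_imU ξ hV, ?_, ?_⟩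
  · rw [m.preimage_imU]
    exact isAffineOpen_imU ξ' hV
  · have h1 : IsIso (m.ψ.appLE (imU ξ V) (imU ξ' V) (m.preimage_imU _).ge) :=
      (ConcreteCategory.isIso_iff_bijective _).mpr (m.toFam.bijective (op ⟨V, hV⟩))
    have h2 : m.ψ.appLE (imU ξ V) (imU ξ' V) (m.preimage_imU _).ge =
        m.ψ.app (imU ξ V) ≫ ξ'.total.presheaf.map (eqToHom (m.preimage_imU V).symm).op := rfl
    rw [h2] at h1
    exact IsIso.of_isIso_comp_right _ (ξ'.total.presheaf.map (eqToHom (m.preimage_imU V).symm).op)

/-- A morphism over the identity is an isomorphism. -/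
def iso (m : Mor (𝟙 A) ξ ξ') : ξ'.Iso ξ :=
  haveI := m.isIso
  { iso := asIso m.ψ
    hom_f := by
      rw [asIso_hom, m.w, specMap_id, Category.comp_id]
    i_hom := m.i }

/-- The map to the base change. -/
def toBaseChange (m : Mor g ξ η) : Mor (𝟙 B) (ξ.baseChange g) η where
  ψ := pullback.lift m.ψ η.f m.w
  w := by rw [specMap_id, Category.comp_id]; exact pullback.lift_snd _ _ _
  i := by
    apply pullback.hom_ext
    · rw [Category.assoc, pullback.lift_fst, m.i, DefSch.baseChange_i_fst]
    · rw [Category.assoc, pullback.lift_snd]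
      exact η.i_f.trans (DefSch.baseChange_i_f ξ g).symm

theorem cl_eq (m : Mor g ξ η) : (defFunctor X x).map g ξ.cl = η.cl :=
  (Quotient.sound (s := DefSch.setoid X x B) ⟨m.toBaseChange.iso⟩).symm

theorem exists_of_cl_eq (h : (defFunctor X x).map g ξ.cl = η.cl) : Nonempty (Mor g ξ η) := by
  obtain ⟨e⟩ := Quotient.exact h.symm
  exact ⟨⟨e.iso.hom ≫ pullback.fst ξ.f (specMap g), by rw [Category.assoc, pullback.condition, ← Category.assoc]; exact congrArg (· ≫ specMap g) e.hom_f,
    by rw [← Category.assoc, e.i_hom, DefSch.baseChange_i_fst]⟩⟩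

/-- The inverse of a morphism over the identity. -/
def symm (m : Mor (𝟙 A) ξ ξ') : Mor (𝟙 A) ξ' ξ := ofIso m.iso.symm

end Mor

/-- A deformation is glued from its affine pieces. -/
def fromGlue (ξ : DefSch X x A) : Mor (𝟙 A) ξ (toFam ξ).glue :=
  let c : Cocone (toFam ξ).diag :=
    { pt := ξ.total
      ι :=
        { app := fun U => (isAffineOpen_imU ξ U.2).fromSpec
          naturality := fun V U h => by
            show Spec.map _ ≫ _ = _ ≫ 𝟙 _
            rw [Category.comp_id]
            exact IsAffineOpen.map_fromSpec _ _ _ } }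
  have hc : ∀ U, (toFam ξ).ι U ≫ colimit.desc _ c = (isAffineOpen_imU ξ U.2).fromSpec := fun U => colimit.ι_desc _ _
  { ψ := colimit.desc _ c
    w := by
      refine colimit.hom_ext fun U => ?_
      show (toFam ξ).ι U ≫ _ = (toFam ξ).ι U ≫ (toFam ξ).f ≫ _
      rw [← Category.assoc, hc, specMap_id, Category.comp_id, Fam.ι_f]
      exact (specMap_strU ξ _).symm
    i := by
      refine Fam.hom_ext_fs fun U => ?_
      show Fam.fs U ≫ (toFam ξ).i ≫ _ = _
      rw [← Category.assoc, Fam.fs_i, Category.assoc, hc]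
      exact IsAffineOpen.SpecMap_appLE_fromSpec ξ.i (isAffineOpen_imU ξ U.2) U.2 (preimage_imU ξ _).ge }

/-- The map of glued deformations. -/
def FamHom.mor {g : A ⟶ B} {F : Fam x A} {G : Fam x B} (m : FamHom g F G) : Mor g F.glue G.glue where
  ψ := m.map
  w := m.map_f
  i := m.i_map

theorem FamHom.exists_mor {g : A ⟶ B} {ξ : DefSch X x A} {η : DefSch X x B}
    (m : FamHom g (DefGlueLib.toFam ξ) (DefGlueLib.toFam η)) : Nonempty (Mor g ξ η) :=
  ⟨{ ψ := (fromGlue η).symm.ψ ≫ m.map ≫ (fromGlue ξ).ψ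
     w := by
      rw [Category.assoc, Category.assoc, (fromGlue ξ).w, specMap_id, Category.comp_id]
      erw [m.map_f]
      rw [← Category.assoc]
      erw [(fromGlue η).symm.w]
      rw [specMap_id, Category.comp_id]
     i := by
      rw [← Category.assoc, (fromGlue η).symm.i, ← Category.assoc]
      erw [m.i_map]
      exact (fromGlue ξ).i }⟩

end Groth.Agent.DefGlueLib
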