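import Mathlib
import Groth.Agent.DefGlueLib.OfSch
import Groth.Agent.DefSchLib.Fibre
import Groth.Agent.ArtFunLib.Tangent
import Groth.Agent.ArtFunLib.Pro

/-! Fibre products of deformations; Schlessinger's conditions for the deformation functor of a scheme. -/

set_option autoImplicit false
set_option backward.isDefEq.respectTransparency false
set_option backward.isDefEq.respectTransparency.types false
set_option linter.style.haveILetI false

universe u

open CategoryTheory CategoryTheory.Limits AlgebraicGeometry TopologicalSpace Opposite ArtFun ArtFun.Art IsLocalRing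

noncomputable section

namespace Groth.Agent.DefGlueLib

open LocHilbGlueLib

variable {Λ k : Type u} [CommRing Λ] [Field k] [Algebra Λ k] {X : Scheme.{u}} {x : X ⟶ specPt k}

section Fibre

variable {B A A₁ A₂ : Art Λ k} {p₁ : B ⟶ A₁} {p₂ : B ⟶ A₂} {f₁ : A₁ ⟶ A} {f₂ : A₂ ⟶ A}
  (h : IsFibreProd p₁ p₂ f₁ f₂) (hf₂ : Function.Surjective f₂) {F₁ : Fam x A₁} {F₂ : Fam x A₂}
  {F₀ : Fam x A} (a₁ : FamHom f₁ F₁ F₀) (a₂ : FamHom f₂ F₂ F₀)

/-- The fibre product of the rings on one affine open. -/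
abbrev fibR (U : X.AffineZariskiSiteᵒᵖ) : Subring (F₁.R.obj U × F₂.R.obj U) :=
  ((a₁.φ.app U).hom.comp (RingHom.fst _ _)).eqLocus ((a₂.φ.app U).hom.comp (RingHom.snd _ _))

/-- Its restriction maps. -/
def fibMap {U V : X.AffineZariskiSiteᵒᵖ} (h : U ⟶ V) : fibR a₁ a₂ U →+* fibR a₁ a₂ V :=
  RingHom.codRestrict (((F₁.R.map h).hom.comp ((RingHom.fst _ _).comp (fibR a₁ a₂ U).subtype)).prod
    ((F₂.R.map h).hom.comp ((RingHom.snd _ _).comp (fibR a₁ a₂ U).subtype))) (fibR a₁ a₂ V) fun w => by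
    show a₁.φ.app V (F₁.R.map h w.1.1) = a₂.φ.app V (F₂.R.map h w.1.2)
    refine (ConcreteCategory.congr_hom (a₁.φ.naturality h) _).trans
      (Eq.trans ?_ (ConcreteCategory.congr_hom (a₂.φ.naturality h) _).symm)
    exact congrArg (F₀.R.map h) w.2

/-- The functor of fibre products. -/
def fibFunctor : X.AffineZariskiSiteᵒᵖ ⥤ CommRingCat.{u} where
  obj U := CommRingCat.of (fibR a₁ a₂ U)
  map h := CommRingCat.ofHom (fibMap a₁ a₂ h)
  map_id U := by
    refine CommRingCat.hom_ext (RingHom.ext fun w => ?_)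
    exact Subtype.ext (Prod.ext (ConcreteCategory.congr_hom (F₁.R.map_id U) w.1.1)
      (ConcreteCategory.congr_hom (F₂.R.map_id U) w.1.2))
  map_comp f g := by
    refine CommRingCat.hom_ext (RingHom.ext fun w => ?_)
    exact Subtype.ext (Prod.ext (ConcreteCategory.congr_hom (F₁.R.map_comp f g) w.1.1)
      (ConcreteCategory.congr_hom (F₂.R.map_comp f g) w.1.2))

/-- The first projection. -/
def fibFst : fibFunctor a₁ a₂ ⟶ F₁.R where
  app U := CommRingCat.ofHom ((RingHom.fst _ _).comp (fibR a₁ a₂ U).subtype)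
  naturality _ _ _ := rfl

/-- The second projection. -/
def fibSnd : fibFunctor a₁ a₂ ⟶ F₂.R where
  app U := CommRingCat.ofHom ((RingHom.snd _ _).comp (fibR a₁ a₂ U).subtype)
  naturality _ _ _ := rfl

theorem fib_π : fibSnd a₁ a₂ ≫ F₂.π = fibFst a₁ a₂ ≫ F₁.π := by
  rw [← a₁.π, ← a₂.π, ← Category.assoc, ← Category.assoc]
  refine congrArg (· ≫ F₀.π) (NatTrans.ext (funext fun U => ?_))
  ext w
  exact w.2.symm

include hf₂ in
theorem fib_props (U : X.AffineZariskiSiteᵒᵖ) :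
    letI := algV x U.unop.toOpens
    (DefSchLib.fibreStr h (a₁.hom U) (a₂.hom U)).Flat ∧
      Function.Surjective (F₁.π.app U ∘ fun w : fibR a₁ a₂ U => w.1.1) ∧
      ∀ w : fibR a₁ a₂ U, F₁.π.app U w.1.1 = 0 →
        w ∈ (maximalIdeal B).map (DefSchLib.fibreStr h (a₁.hom U) (a₂.hom U)) := by
  letI := algV x U.unop.toOpens
  letI := (DefSchLib.fibreStr h (a₁.hom U) (a₂.hom U)).toAlgebra
  obtain ⟨ι, b, β, hβ⟩ := DefSchLib.exists_fibre_basis h hf₂ (a₁.hom U) (a₂.hom U)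
  haveI := Module.Free.of_basis β
  refine ⟨(inferInstance : Module.Flat B (DefSchLib.fibreRing (a₁.hom U) (a₂.hom U))), fun v => ?_, fun w hw => ?_⟩
  · obtain ⟨r, hr⟩ := F₁.π_surj U v
    obtain ⟨r', hr'⟩ := (a₂.hom U).surjective_φ hf₂ ((a₁.hom U).φ r)
    exact ⟨⟨(r, r'), hr'.symm⟩, hr⟩
  · let P : DefSchLib.fibreRing (a₁.hom U) (a₂.hom U) →+* Γ(X, U.unop.toOpens) :=
      (F₁.ring U).π.comp ((RingHom.fst _ _).comp (DefSchLib.fibreRing (a₁.hom U) (a₂.hom U)).subtype)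
    have hπ : ∀ c, P (DefSchLib.fibreStr h (a₁.hom U) (a₂.hom U) c) = algebraMap k _ (B.res c) := fun c =>
      ((F₁.ring U).π_str _).trans (congrArg _ (Art.res_app p₁ c))
    have hsum := β.linearCombination_repr w
    rw [Finsupp.linearCombination_apply, Finsupp.sum] at hsum
    have h1 : P w = 0 := hw
    have h0 : ∑ i ∈ (β.repr w).support, B.res (β.repr w i) • b i = 0 := by
      rw [← hsum, map_sum] at h1
      refine Eq.trans (Finset.sum_congr rfl fun i _ => ?_) h1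
      show _ = P (DefSchLib.fibreStr h (a₁.hom U) (a₂.hom U) (β.repr w i) * β i)
      rw [map_mul, hπ, Algebra.smul_def]
      exact congrArg (_ * ·) (hβ i).symm
    rw [← hsum]
    refine Ideal.sum_mem _ fun i hi => Ideal.mul_mem_right _ _ (Ideal.mem_map_of_mem _ ?_)
    exact (B.mem_maximalIdeal_iff _).mpr (linearIndependent_iff'.mp b.linearIndependent _ _ h0 i hi)

/-- The fibre product of two families. -/
def fibre : Fam x B where
  R := fibFunctor a₁ a₂
  str U :=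
    letI := algV x U.unop.toOpens
    CommRingCat.ofHom (DefSchLib.fibreStr h (a₁.hom U) (a₂.hom U))
  str_nat {U V} q := by
    ext c
    exact Subtype.ext (Prod.ext (ConcreteCategory.congr_hom (F₁.str_nat q) _)
      (ConcreteCategory.congr_hom (F₂.str_nat q) _))
  π := fibFst a₁ a₂ ≫ F₁.π
  flat U := (fib_props h hf₂ a₁ a₂ U).1
  π_surj U := (fib_props h hf₂ a₁ a₂ U).2.1
  π_str U := by
    ext c
    exact (ConcreteCategory.congr_hom (F₁.π_str U) _).trans
      (congrArg (algR x U.unop.toOpens) (Art.res_app p₁ c))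
  ker_π U := by
    refine le_antisymm (fun w hw => (fib_props h hf₂ a₁ a₂ U).2.2 w hw) (Ideal.map_le_iff_le_comap.mpr fun c hc => ?_)
    rw [Ideal.mem_comap, RingHom.mem_ker]
    show F₁.π.app U (F₁.str U (p₁ c)) = 0
    refine (ConcreteCategory.congr_hom (F₁.π_str U) _).trans ?_
    show algR x U.unop.toOpens (A₁.res (p₁ c)) = 0
    rw [Art.res_app, (B.mem_maximalIdeal_iff c).mp hc, map_zero]

/-- The first projection of the fibre product. -/
def fibreFst : FamHom p₁ (fibre h hf₂ a₁ a₂) F₁ where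
  φ := fibFst a₁ a₂
  str _ := rfl
  π := rfl

/-- The second projection of the fibre product. -/
def fibreSnd : FamHom p₂ (fibre h hf₂ a₁ a₂) F₂ where
  φ := fibSnd a₁ a₂
  str _ := rfl
  π := fib_π a₁ a₂

theorem exists_fibreLift {E : Fam x B} (c₁ : FamHom p₁ E F₁) (c₂ : FamHom p₂ E F₂)
    (hc : c₁.φ ≫ a₁.φ = c₂.φ ≫ a₂.φ) : Nonempty (FamHom (𝟙 B) E (fibre h hf₂ a₁ a₂)) := by
  refine ⟨{ φ := { app := fun U => CommRingCat.ofHom (RingHom.codRestrict ((c₁.φ.app U).hom.prod (c₂.φ.app U).hom)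
                      (fibR a₁ a₂ U) fun r => ConcreteCategory.congr_hom (congrArg (fun t : E.R ⟶ F₀.R => t.app U) hc) r)
                   naturality := ?_ }
            str := ?_, π := ?_ }⟩
  · intro U V q
    ext r
    exact Subtype.ext (Prod.ext (ConcreteCategory.congr_hom (c₁.φ.naturality q) r)
      (ConcreteCategory.congr_hom (c₂.φ.naturality q) r))
  · intro U
    ext c
    exact Subtype.ext (Prod.ext (ConcreteCategory.congr_hom (c₁.str U) c) (ConcreteCategory.congr_hom (c₂.str U) c))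
  · exact c₁.π

end Fibre

section Conditions

variable {B A A₁ A₂ : Art Λ k} {p₁ : B ⟶ A₁} {p₂ : B ⟶ A₂} {f₁ : A₁ ⟶ A} {f₂ : A₂ ⟶ A}

theorem cmp_surjective (h : IsFibreProd p₁ p₂ f₁ f₂) (hf₂ : Function.Surjective f₂) :
    Function.Surjective (cmp (defFunctor (Λ := Λ) X x) h) := by
  rintro ⟨⟨z₁, z₂⟩, hz⟩
  induction z₁ using Quotient.inductionOn with
  | h ξ₁ =>
  induction z₂ using Quotient.inductionOn with
  | h ξ₂ =>
  let ξ₀ := ξ₁.baseChange f₁
  obtain ⟨b⟩ := Mor.exists_of_cl_eq (g := f₂) (ξ := ξ₂) (η := ξ₀) hz.symm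
  let a₁ := (Mor.baseChange ξ₁ f₁).toFam
  let a₂ := b.toFam
  let ζ := (fibre h hf₂ a₁ a₂).glue
  let q₁ : Mor (p₁ ≫ 𝟙 _) ζ ξ₁ := (fibreFst h hf₂ a₁ a₂).mor.comp (fromGlue ξ₁).symm
  let q₂ : Mor (p₂ ≫ 𝟙 _) ζ ξ₂ := (fibreSnd h hf₂ a₁ a₂).mor.comp (fromGlue ξ₂).symm
  refine ⟨ζ.cl, Subtype.ext (Prod.ext ?_ ?_)⟩
  · show (defFunctor X x).map p₁ ζ.cl = _
    rw [← Category.comp_id p₁]
    exact q₁.cl_eq
  · show (defFunctor X x).map p₂ ζ.cl = _
    rw [← Category.comp_id p₂]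
    exact q₂.cl_eq

theorem cmp_injective (h : IsFibreProd p₁ p₂ f₁ f₂) (hf₂ : Function.Surjective f₂)
    (hrig : ∀ (ξ₀ : DefSch X x A) (e : ξ₀.Iso ξ₀), e.iso.hom = 𝟙 ξ₀.total) :
    Function.Injective (cmp (defFunctor (Λ := Λ) X x) h) := by
  intro z z' hz
  induction z using Quotient.inductionOn with
  | h ξ =>
  induction z' using Quotient.inductionOn with
  | h ξ' =>
  let ξ₁ := ξ.baseChange p₁
  let ξ₂ := ξ.baseChange p₂
  let ξ₀ := ξ₁.baseChange f₁
  let c₁ := Mor.baseChange ξ p₁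
  let c₂ := Mor.baseChange ξ p₂
  let a₁ := Mor.baseChange ξ₁ f₁
  obtain ⟨d₁⟩ : Nonempty (Mor p₁ ξ' ξ₁) := Mor.exists_of_cl_eq (congrArg (fun t => t.1.1) hz).symm
  obtain ⟨d₂⟩ : Nonempty (Mor p₂ ξ' ξ₂) := Mor.exists_of_cl_eq (congrArg (fun t => t.1.2) hz).symm
  obtain ⟨a₂⟩ : Nonempty (Mor f₂ ξ₂ ξ₀) := Mor.exists_of_cl_eq (by
    show (defFunctor X x).map f₂ ξ₂.cl = ((defFunctor X x).map f₁ ((defFunctor X x).map p₁ ξ.cl))
    rw [← defFunctor_map_cl, ← Functor.map_comp_apply, ← Functor.map_comp_apply, h.w])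
  have key : ∀ {η : DefSch X x B} (d₁ : Mor p₁ η ξ₁) (d₂ : Mor p₂ η ξ₂), a₁.ψ ≫ d₁.ψ = a₂.ψ ≫ d₂.ψ := by
    intro η d₁ d₂
    let u := (d₁.comp a₁).toBaseChange
    let v := (d₂.comp a₂)
    let w : Mor (p₁ ≫ f₁) η ξ₀ := ⟨v.ψ, by rw [v.w, h.w], v.i⟩
    let e := (w.toBaseChange.iso).trans u.iso.symm
    have e1 := hrig ξ₀ e
    have e2 : u.ψ = w.toBaseChange.ψ := by
      have e3 := congrArg (· ≫ u.iso.iso.hom) e1
      simp only [e, DefSch.Iso.trans, DefSch.Iso.symm, Iso.trans_hom, Iso.symm_hom, Category.assoc,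
        Iso.inv_hom_id, Category.comp_id, Category.id_comp] at e3
      exact e3.symm
    have e4 := congrArg (· ≫ pullback.fst η.f (specMap (p₁ ≫ f₁))) e2
    simpa [u, w, v, Mor.toBaseChange, Mor.comp] using e4
  have hfam : ∀ {η : DefSch X x B} (d₁ : Mor p₁ η ξ₁) (d₂ : Mor p₂ η ξ₂),
      d₁.toFam.φ ≫ a₁.toFam.φ = d₂.toFam.φ ≫ a₂.toFam.φ := by
    intro η d₁ d₂
    refine NatTrans.ext (funext fun U => ?_)
    show d₁.ψ.appLE _ _ _ ≫ a₁.ψ.appLE _ _ _ = d₂.ψ.appLE _ _ _ ≫ a₂.ψ.appLE _ _ _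
    simp [Scheme.Hom.appLE_comp_appLE, key d₁ d₂]
  obtain ⟨L⟩ := exists_fibreLift h hf₂ a₁.toFam a₂.toFam c₁.toFam c₂.toFam (hfam c₁ c₂)
  obtain ⟨L'⟩ := exists_fibreLift h hf₂ a₁.toFam a₂.toFam d₁.toFam d₂.toFam (hfam d₁ d₂)
  exact Quotient.sound (s := DefSch.setoid X x B) ⟨((fromGlue ξ).iso.symm.trans L.mor.iso.symm).trans
    (L'.mor.iso.trans (fromGlue ξ').iso)⟩

theorem isIso_of_maximalIdeal_eq_bot (hA : maximalIdeal A = ⊥) (ξ : DefSch X x A) : IsIso ξ.i := by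
  haveI : IsIso (specRes A) := by
    have hb : Function.Bijective (A.res : A →+* k) := ⟨(RingHom.injective_iff_ker_eq_bot _).mpr
      ((DefSchLib.RingDef.ker_res A).trans hA), A.res_surjective⟩
    haveI : IsIso (CommRingCat.ofHom A.res.toRingHom) := (ConcreteCategory.isIso_iff_bijective _).mpr hb
    infer_instance
  exact ξ.isPullback.isIso_fst_of_isIso

theorem iso_hom_eq_id_of_base (ξ : DefSch X x (base Λ k)) (e : ξ.Iso ξ) : e.iso.hom = 𝟙 ξ.total := by
  haveI := isIso_of_maximalIdeal_eq_bot (DefSchLib.maximalIdeal_base Λ) ξ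
  rw [← cancel_epi ξ.i, e.i_hom, Category.comp_id]

theorem defFunctor_h0 (hx : Flat x) : H0 (defFunctor (Λ := Λ) X x) := by
  refine ⟨⟨(DefSch.self X x hx).cl⟩, ⟨fun z z' => ?_⟩⟩
  induction z using Quotient.inductionOn with
  | h ξ =>
  induction z' using Quotient.inductionOn with
  | h ξ' =>
  haveI := isIso_of_maximalIdeal_eq_bot (DefSchLib.maximalIdeal_base Λ) ξ
  haveI := isIso_of_maximalIdeal_eq_bot (DefSchLib.maximalIdeal_base Λ) ξ'
  refine Quotient.sound (s := DefSch.setoid X x _) ⟨⟨(asIso ξ.i).symm ≪≫ asIso ξ'.i, ?_, by simp⟩⟩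
  rw [← cancel_epi ξ.i]
  simp [ξ.i_f, ξ'.i_f]

theorem defFunctor_hbar : Hbar (defFunctor (Λ := Λ) X x) :=
  fun _ _ _ _ _ _ _ _ h hs => cmp_surjective h hs.1

theorem defFunctor_heps : Heps (defFunctor (Λ := Λ) X x) :=
  fun _ _ _ _ h => ⟨cmp_injective h (Art.dual Λ k).res_surjective iso_hom_eq_id_of_base,
    cmp_surjective h (Art.dual Λ k).res_surjective⟩

theorem defFunctor_hsq [QuasiSeparated x] (hX : Subsingleton (Omega.sheaf x ⟶ Coh.structureModule X)) :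
    HSq (defFunctor (Λ := k) X x) :=
  fun _ _ _ _ _ _ h hs => ⟨cmp_injective h hs.1 fun ξ e => RigidLib.eq_id_of_subsingleton ξ hX e,
    cmp_surjective h hs.1⟩

theorem nonempty_tangentStr (hx : Flat x) : Nonempty (TangentStr (defFunctor (Λ := Λ) X x)) :=
  ArtFunLib.nonempty_tangentStr (defFunctor_h0 hx) defFunctor_heps

end Conditions

end Groth.Agent.DefGlueLib
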