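import Groth.Agent.DefGlueLib.Fibre
import Groth.Agent.ArtFunLib.FibreProd
import Groth.Agent.ArtFunLib.Functor

/-! Automorphisms of deformations and the injectivity of the comparison map. -/

set_option autoImplicit false
set_option backward.isDefEq.respectTransparency false
set_option backward.isDefEq.respectTransparency.types false
set_option linter.style.haveILetI false

universe u

open CategoryTheory CategoryTheory.Limits AlgebraicGeometry TopologicalSpace Opposite ArtFun ArtFun.Art IsLocalRing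

noncomputable section

namespace Groth.Agent.DefGlueLib

open LocHilbGlueLib

variable {Λ k : Type u} [CommRing Λ] [Field k] [Algebra Λ k] {X : Scheme.{u}} {x : X ⟶ specPt k}

section Basic

variable {A B : Art Λ k} {g : A ⟶ B} {ξ : DefSch X x A} {η : DefSch X x B}

theorem ι_fromGlue (U : X.AffineZariskiSite) :
    (toFam ξ).ι U ≫ (fromGlue ξ).ψ = (isAffineOpen_imU ξ U.2).fromSpec := colimit.ι_desc _ _

theorem fromGlue_nat (m : Mor g ξ η) : (fromGlue η).ψ ≫ m.ψ = m.toFam.map ≫ (fromGlue ξ).ψ := by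
  refine colimit.hom_ext fun U => ?_
  show (toFam η).ι U ≫ _ = (toFam η).ι U ≫ _
  rw [← Category.assoc, ι_fromGlue]
  erw [← Category.assoc, FamHom.ι_map]
  rw [Category.assoc, ι_fromGlue]
  exact (IsAffineOpen.SpecMap_appLE_fromSpec m.ψ (isAffineOpen_imU ξ U.2) (isAffineOpen_imU η U.2)
    (m.preimage_imU _).ge).symm

theorem Mor.hom_ext (m : Mor g ξ η) {T : Scheme.{u}} {u v : T ⟶ η.total} (h₁ : u ≫ m.ψ = v ≫ m.ψ)
    (h₂ : u ≫ η.f = v ≫ η.f) : u = v := by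
  haveI := m.toBaseChange.isIso
  rw [← cancel_mono m.toBaseChange.ψ]
  apply pullback.hom_ext
  · simpa [Mor.toBaseChange] using h₁
  · simpa [Mor.toBaseChange] using h₂

theorem Iso.ext' {ξ' : DefSch X x A} {e e' : ξ.Iso ξ'} (h : e.iso.hom = e'.iso.hom) : e = e' := by
  cases e
  cases e'
  congr 1
  exact CategoryTheory.Iso.ext h

theorem baseChange_ext {ξ' : DefSch X x B} {e e' : (ξ.baseChange g).Iso ξ'}
    (h : e.iso.hom = e'.iso.hom) : e = e' := Iso.ext' h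

/-- A deformation and an automorphism. -/
def Mor.twist (m : Mor g ξ η) (e : η.Iso η) : Mor g ξ η where
  ψ := e.iso.hom ≫ m.ψ
  w := by rw [Category.assoc, m.w, ← Category.assoc, e.hom_f]
  i := by rw [← Category.assoc, e.i_hom, m.i]

theorem exists_auto (m n : Mor g ξ η) : ∃ φ : η.Iso η, φ.iso.hom ≫ m.ψ = n.ψ := by
  refine ⟨n.toBaseChange.iso.trans m.toBaseChange.iso.symm, ?_⟩
  haveI := m.toBaseChange.isIso
  haveI := n.toBaseChange.isIso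
  show (n.toBaseChange.ψ ≫ inv m.toBaseChange.ψ) ≫ m.ψ = n.ψ
  have h1 : ∀ q : Mor g ξ η, q.toBaseChange.ψ ≫ pullback.fst ξ.f (specMap g) = q.ψ := fun q =>
    pullback.lift_fst _ _ _
  conv_lhs => arg 2; rw [← h1 m]
  rw [Category.assoc, IsIso.inv_hom_id_assoc, h1]

end Basic

variable {B A A₁ A₂ : Art Λ k} {p₁ : B ⟶ A₁} {p₂ : B ⟶ A₂} {f₁ : A₁ ⟶ A} {f₂ : A₂ ⟶ A}

theorem exists_glued (h : IsFibreProd p₁ p₂ f₁ f₂) (hf₂ : Function.Surjective f₂) {ξ₁ : DefSch X x A₁}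
    {ξ₂ : DefSch X x A₂} {ξ₀ : DefSch X x A} (a₁ : Mor f₁ ξ₁ ξ₀) (a₂ : Mor f₂ ξ₂ ξ₀) :
    ∃ (ζ : DefSch X x B) (q₁ : Mor p₁ ζ ξ₁) (q₂ : Mor p₂ ζ ξ₂), a₁.ψ ≫ q₁.ψ = a₂.ψ ≫ q₂.ψ := by
  let F := fibre h hf₂ a₁.toFam a₂.toFam
  let r₁ := fibreFst h hf₂ a₁.toFam a₂.toFam
  let r₂ := fibreSnd h hf₂ a₁.toFam a₂.toFam
  haveI := (fromGlue ξ₀).isIso
  haveI := (fromGlue ξ₁).isIso
  haveI := (fromGlue ξ₂).isIso
  refine ⟨F.glue, ⟨inv (fromGlue ξ₁).ψ ≫ r₁.map, ?_, ?_⟩, ⟨inv (fromGlue ξ₂).ψ ≫ r₂.map, ?_, ?_⟩, ?_⟩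
  · rw [Category.assoc, IsIso.inv_comp_eq]
    erw [r₁.map_f]
    rw [← Category.assoc, (fromGlue ξ₁).w, specMap_id, Category.comp_id]
    rfl
  · rw [← Category.assoc, show ξ₁.i ≫ inv (fromGlue ξ₁).ψ = (toFam ξ₁).i from
      (IsIso.comp_inv_eq _).mpr (fromGlue ξ₁).i.symm]
    exact r₁.i_map
  · rw [Category.assoc, IsIso.inv_comp_eq]
    erw [r₂.map_f]
    rw [← Category.assoc, (fromGlue ξ₂).w, specMap_id, Category.comp_id]
    rfl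
  · rw [← Category.assoc, show ξ₂.i ≫ inv (fromGlue ξ₂).ψ = (toFam ξ₂).i from
      (IsIso.comp_inv_eq _).mpr (fromGlue ξ₂).i.symm]
    exact r₂.i_map
  · have hw : ∀ {C : Art Λ k} {η : DefSch X x C} {g : C ⟶ A} (a : Mor g η ξ₀) (hi : IsIso (fromGlue η).ψ),
        a.ψ ≫ inv (fromGlue η).ψ = inv (fromGlue ξ₀).ψ ≫ a.toFam.map := fun a hi => by
      rw [IsIso.comp_inv_eq, Category.assoc, ← fromGlue_nat, IsIso.inv_hom_id_assoc]
    show a₁.ψ ≫ inv _ ≫ _ = a₂.ψ ≫ inv _ ≫ _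
    rw [← Category.assoc, ← Category.assoc, hw a₁ inferInstance, hw a₂ inferInstance, Category.assoc, Category.assoc]
    refine congrArg (_ ≫ ·) (colimit.hom_ext fun U => ?_)
    show (toFam ξ₀).ι U ≫ _ = (toFam ξ₀).ι U ≫ _
    erw [← Category.assoc, ← Category.assoc, FamHom.ι_map, FamHom.ι_map, Category.assoc, Category.assoc,
      FamHom.ι_map, FamHom.ι_map, ← Category.assoc, ← Category.assoc, ← Spec.map_comp, ← Spec.map_comp]
    refine congrArg (fun t => Spec.map t ≫ F.ι U) ?_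
    ext w
    exact w.2

theorem cmp_injective_of_lift (h : IsFibreProd p₁ p₂ f₁ f₂) (hf₂ : Function.Surjective f₂)
    (hlift : ∀ ξ₂ : DefSch X x A₂, Function.Surjective (fun e : ξ₂.Iso ξ₂ => e.baseChange f₂)) :
    Function.Injective (cmp (defFunctor (Λ := Λ) X x) h) := by
  intro z z' hz
  induction z using Quotient.inductionOn with
  | h ξ =>
  induction z' using Quotient.inductionOn with
  | h ξ' =>
  let ξ₁ := ξ.baseChange p₁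
  let ξ₂ := ξ.baseChange p₂
  let ξ₀ := ξ₁.baseChange f₁
  let c₁ := Mor.baseChange ξ p₁
  let c₂ := Mor.baseChange ξ p₂
  let a₁ := Mor.baseChange ξ₁ f₁
  obtain ⟨d₁⟩ : Nonempty (Mor p₁ ξ' ξ₁) := Mor.exists_of_cl_eq (congrArg (fun t => t.1.1) hz).symm
  obtain ⟨d₂⟩ : Nonempty (Mor p₂ ξ' ξ₂) := Mor.exists_of_cl_eq (congrArg (fun t => t.1.2) hz).symm
  obtain ⟨a₂⟩ : Nonempty (Mor f₂ ξ₂ ξ₀) := Mor.exists_of_cl_eq (by
    show (defFunctor X x).map f₂ ξ₂.cl = ((defFunctor X x).map f₁ ((defFunctor X x).map p₁ ξ.cl))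
    rw [← defFunctor_map_cl, ← Functor.map_comp_apply, ← Functor.map_comp_apply, h.w])
  have key : ∀ {η : DefSch X x B} (d₁ : Mor p₁ η ξ₁) (d₂ : Mor p₂ η ξ₂),
      ∃ d : Mor p₂ η ξ₂, a₁.ψ ≫ d₁.ψ = a₂.ψ ≫ d.ψ := by
    intro η d₁ d₂
    have hv : ∀ v : Mor (p₂ ≫ f₂) η ξ₀, ∃ v' : Mor (p₁ ≫ f₁) η ξ₀, v'.ψ = v.ψ := by
      rw [h.w]; exact fun v => ⟨v, rfl⟩
    obtain ⟨v, hv⟩ := hv (d₂.comp a₂)
    obtain ⟨e, he⟩ := exists_auto v (d₁.comp a₁)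
    obtain ⟨et, het⟩ := hlift ξ₂ ((a₂.toBaseChange.iso.symm.trans e).trans a₂.toBaseChange.iso)
    refine ⟨d₂.twist et, ?_⟩
    haveI := a₂.toBaseChange.isIso
    have h2 := congrArg (fun t => t.iso.hom ≫ pullback.fst ξ₂.f (specMap f₂)) het
    have h3 : a₂.toBaseChange.ψ ≫ pullback.fst ξ₂.f (specMap f₂) = a₂.ψ := pullback.lift_fst _ _ _
    have h4 : (inv a₂.toBaseChange.ψ ≫ e.iso.hom) ≫ a₂.ψ = pullback.fst ξ₂.f (specMap f₂) ≫ et.iso.hom := by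
      rw [← DefSch.pullMap_fst et.iso.hom et.hom_f f₂, ← h3, Category.assoc]
      simpa [DefSch.Iso.trans, DefSch.Iso.symm, Mor.iso, DefSch.Iso.baseChange] using h2.symm
    show a₁.ψ ≫ d₁.ψ = a₂.ψ ≫ et.iso.hom ≫ d₂.ψ
    rw [← Category.assoc a₂.ψ, ← h3, Category.assoc (a₂.toBaseChange.ψ), ← h4, ← Category.assoc,
      IsIso.hom_inv_id_assoc, Category.assoc]
    exact he.symm.trans (congrArg (e.iso.hom ≫ ·) hv)
  have hfam : ∀ {η : DefSch X x B} (d₁ : Mor p₁ η ξ₁) (d₂ : Mor p₂ η ξ₂), a₁.ψ ≫ d₁.ψ = a₂.ψ ≫ d₂.ψ →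
      d₁.toFam.φ ≫ a₁.toFam.φ = d₂.toFam.φ ≫ a₂.toFam.φ := by
    intro η d₁ d₂ he
    refine NatTrans.ext (funext fun U => ?_)
    show d₁.ψ.appLE _ _ _ ≫ a₁.ψ.appLE _ _ _ = d₂.ψ.appLE _ _ _ ≫ a₂.ψ.appLE _ _ _
    simp [Scheme.Hom.appLE_comp_appLE, he]
  obtain ⟨c, hc⟩ := key c₁ c₂
  obtain ⟨d, hd⟩ := key d₁ d₂
  obtain ⟨L⟩ := exists_fibreLift h hf₂ a₁.toFam a₂.toFam c₁.toFam c.toFam (hfam c₁ c hc)
  obtain ⟨L'⟩ := exists_fibreLift h hf₂ a₁.toFam a₂.toFam d₁.toFam d.toFam (hfam d₁ d hd)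
  exact Quotient.sound (s := DefSch.setoid X x B) ⟨((fromGlue ξ).iso.symm.trans L.mor.iso.symm).trans
    (L'.mor.iso.trans (fromGlue ξ').iso)⟩

theorem lift_of_injective {A' : Art Λ k} {p : A' ⟶ A} (hp : Function.Surjective p) [Module.Finite Λ k]
    (hinj : ∀ (Q : Art Λ k) (r₁ r₂ : Q ⟶ A') (h : IsFibreProd r₁ r₂ p p),
      Function.Injective (cmp (defFunctor (Λ := Λ) X x) h))
    (ξ' : DefSch X x A') : Function.Surjective (fun e : ξ'.Iso ξ' => e.baseChange p) := by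
  intro e
  obtain ⟨Q, r₁, r₂, hQ⟩ := Groth.Agent.ArtFunLib.exists_fibreProd p p hp
  let c := Mor.baseChange ξ' p
  obtain ⟨ζ, q₁, q₂, hq⟩ := exists_glued hQ hp c c
  obtain ⟨ζ', q₁', q₂', hq'⟩ := exists_glued hQ hp c (c.twist e)
  obtain ⟨θ⟩ : Nonempty (ζ'.Iso ζ) := Quotient.exact (hinj Q r₁ r₂ hQ (a₁ := ζ'.cl) (a₂ := ζ.cl)
    (Subtype.ext (Prod.ext (q₁'.cl_eq.trans q₁.cl_eq.symm) (q₂'.cl_eq.trans q₂.cl_eq.symm))))
  let n₁ : Mor r₁ ζ ξ' := ⟨q₁'.ψ ≫ θ.iso.hom, by rw [Category.assoc, θ.hom_f, q₁'.w],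
    by rw [← Category.assoc, q₁'.i, θ.i_hom]⟩
  let n₂ : Mor r₂ ζ ξ' := ⟨q₂'.ψ ≫ θ.iso.hom, by rw [Category.assoc, θ.hom_f, q₂'.w],
    by rw [← Category.assoc, q₂'.i, θ.i_hom]⟩
  obtain ⟨φ₁, h₁⟩ := exists_auto q₁ n₁
  obtain ⟨φ₂, h₂⟩ := exists_auto q₂ n₂
  refine ⟨φ₁.trans φ₂.symm, Iso.ext' ?_⟩
  have hb : ∀ φ : ξ'.Iso ξ', c.ψ ≫ φ.iso.hom = (φ.baseChange p).iso.hom ≫ c.ψ := fun φ =>
    (DefSch.pullMap_fst φ.iso.hom φ.hom_f p).symm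
  have key : (φ₁.baseChange p).iso.hom ≫ c.ψ ≫ q₁.ψ = e.iso.hom ≫ (φ₂.baseChange p).iso.hom ≫ c.ψ ≫ q₁.ψ :=
    calc (φ₁.baseChange p).iso.hom ≫ c.ψ ≫ q₁.ψ = c.ψ ≫ q₁'.ψ ≫ θ.iso.hom := by
          rw [← Category.assoc, ← hb, Category.assoc, h₁]
      _ = e.iso.hom ≫ c.ψ ≫ q₂'.ψ ≫ θ.iso.hom := by
          rw [← Category.assoc, hq', Category.assoc]
          exact Category.assoc _ _ _
      _ = e.iso.hom ≫ c.ψ ≫ φ₂.iso.hom ≫ q₂.ψ := by rw [h₂]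
      _ = e.iso.hom ≫ (φ₂.baseChange p).iso.hom ≫ c.ψ ≫ q₁.ψ := by
          rw [← Category.assoc c.ψ, hb, Category.assoc, ← hq]
  have h3 : (φ₁.baseChange p).iso.hom = e.iso.hom ≫ (φ₂.baseChange p).iso.hom := by
    refine Mor.hom_ext (q₁.comp c) (key.trans (Category.assoc _ _ _).symm) ?_
    rw [Category.assoc, (φ₁.baseChange p).hom_f, (φ₂.baseChange p).hom_f, e.hom_f]
  have h4 : ((φ₁.trans φ₂.symm).baseChange p).iso.hom =
      (φ₁.baseChange p).iso.hom ≫ (φ₂.baseChange p).iso.inv := by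
    apply pullback.hom_ext <;> simp [DefSch.Iso.baseChange, DefSch.Iso.trans, DefSch.Iso.symm]
  show ((φ₁.trans φ₂.symm).baseChange p).iso.hom = e.iso.hom
  rw [h4, h3, Category.assoc, Iso.hom_inv_id, Category.comp_id]

end Groth.Agent.DefGlueLib
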