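import Groth.Agent.DefGlueLib.Glue

/-! Deformations given by rings on a basis of affine opens. -/

set_option autoImplicit false
set_option backward.isDefEq.respectTransparency false
set_option backward.isDefEq.respectTransparency.types false
set_option linter.style.haveILetI false

universe u

open CategoryTheory CategoryTheory.Limits AlgebraicGeometry TopologicalSpace Opposite ArtFun ArtFun.Art IsLocalRing

noncomputable section

namespace Groth.Agent.DefGlueLib

open LocHilbGlueLib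

variable {Λ k : Type u} [CommRing Λ] [Field k] [Algebra Λ k] {X : Scheme.{u}}

/-- The affine opens satisfying a condition. -/
abbrev Sub (P : X.AffineZariskiSite → Prop) : Type u := {U : X.AffineZariskiSite // P U}

/-- A condition on affine opens cutting out a basis closed under basic opens. -/
structure IsSub (P : X.AffineZariskiSite → Prop) : Prop where
  down : ∀ {U V : X.AffineZariskiSite}, V ≤ U → P U → P V
  cover : ∀ p : X, ∃ U : Sub P, p ∈ U.1.toOpens

/-- Deformation data on a subsite. -/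
structure SFam (x : X ⟶ specPt k) (A : Art Λ k) (P : X.AffineZariskiSite → Prop) : Type (u + 1) where
  /-- the rings -/
  R : (Sub P)ᵒᵖ ⥤ CommRingCat.{u}
  /-- the structure maps -/
  str : ∀ U, CommRingCat.of A ⟶ R.obj U
  str_nat : ∀ {U V : (Sub P)ᵒᵖ} (h : U ⟶ V), str U ≫ R.map h = str V
  /-- the reductions -/
  π : ∀ U : (Sub P)ᵒᵖ, R.obj U ⟶ Γ(X, U.unop.1.toOpens)
  π_nat : ∀ {U V : Sub P} (h : V ⟶ U),
    R.map h.op ≫ π (op V) = π (op U) ≫ oMap (homOfLE h.le : V.1 ⟶ U.1)
  flat : ∀ U, (str U).hom.Flat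
  π_surj : ∀ U, Function.Surjective (π U).hom
  π_str : ∀ U, str U ≫ π U = CommRingCat.ofHom A.res.toRingHom ≫ algR x U.unop.1.toOpens
  ker_π : ∀ U, RingHom.ker (π U).hom = (maximalIdeal A).map (str U).hom

namespace SFam

variable {x : X ⟶ specPt k} {A : Art Λ k} {P : X.AffineZariskiSite → Prop} (F : SFam x A P)

/-- The lift of the functions on one affine open. -/
def ring (U : (Sub P)ᵒᵖ) :
    letI := algV x U.unop.1.toOpens
    DefSchLib.RingDef (Λ := Λ) Γ(X, U.unop.1.toOpens) A :=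
  letI := algV x U.unop.1.toOpens
  { R := F.R.obj U
    str := (F.str U).hom
    flat := F.flat U
    π := (F.π U).hom
    π_surjective := F.π_surj U
    π_str := fun a => ConcreteCategory.congr_hom (F.π_str U) a
    ker_π := F.ker_π U }

theorem isNilpotent_ker (U : (Sub P)ᵒᵖ) : IsNilpotent (RingHom.ker (F.π U).hom) := by
  obtain ⟨n, hn⟩ := DefSchLib.maximalIdeal_isNilpotent A
  exact ⟨n, by rw [F.ker_π, ← Ideal.map_pow, hn, Ideal.zero_eq_bot, Ideal.map_bot]; rfl⟩

theorem isLocalization {U V : Sub P} (h : V ⟶ U) :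
    ∃ r : F.R.obj (op U), letI := (F.R.map h.op).hom.toAlgebra; IsLocalization.Away r (F.R.obj (op V)) := by
  obtain ⟨f, hf⟩ := (show V.1 ≤ U.1 from h.le)
  obtain ⟨r, hr⟩ := F.π_surj (op U) f
  letI := algV x U.1.toOpens
  letI := algV x V.1.toOpens
  refine ⟨r, isLocalization_lift (F.ring (op U)) (F.ring (op V)) (F.R.map h.op).hom
    (fun a => ConcreteCategory.congr_hom (F.str_nat h.op) a) (oMap (homOfLE h.le : V.1 ⟶ U.1)).hom (fun c => ?_)
    (fun s => ConcreteCategory.congr_hom (F.π_nat h) s) r ?_⟩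
  · exact congrArg (fun g : CommRingCat.of k ⟶ Γ(X, V.1.toOpens) => g c)
      (show algR x U.1.toOpens ≫ oMap (homOfLE h.le : V.1 ⟶ U.1) = algR x V.1.toOpens by
        simp [algR, Scheme.Hom.appLE_map])
  · show letI := (oMap (homOfLE h.le : V.1 ⟶ U.1)).hom.toAlgebra
      IsLocalization.Away (show Γ(X, U.1.toOpens) from (F.π (op U)).hom r) Γ(X, V.1.toOpens)
    rw [hr]
    obtain ⟨⟨V, hV⟩, hQ⟩ := V
    change X.basicOpen f = V at hf
    subst hf
    exact U.1.2.isLocalization_basicOpen f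

/-- The diagram of spectra. -/
abbrev diag : Sub P ⥤ Scheme.{u} := F.R.rightOp ⋙ Scheme.Spec

instance isOpenImmersion_diag {U V : Sub P} (h : V ⟶ U) : IsOpenImmersion (F.diag.map h) := by
  obtain ⟨r, hr⟩ := F.isLocalization h
  letI := (F.R.map h.op).hom.toAlgebra
  exact IsOpenImmersion.of_isLocalization (S := F.R.obj (op V)) r

/-- The closed fibre in one chart. -/
def incl (U : Sub P) : Spec Γ(X, U.1.toOpens) ⟶ F.diag.obj U := Spec.map (F.π (op U))

theorem incl_bijective (U : Sub P) : Function.Bijective (F.incl U) := by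
  refine ⟨(PrimeSpectrum.comap_injective_of_surjective _ (F.π_surj (op U))), fun Q => ?_⟩
  have hle : RingHom.ker (F.π (op U)).hom ≤ Q.asIdeal := fun a ha => by
    obtain ⟨n, hn⟩ := F.isNilpotent_ker (op U)
    have h1 := Ideal.pow_mem_pow ha n
    rw [hn, Ideal.zero_eq_bot, Ideal.mem_bot] at h1
    exact Q.2.mem_of_pow_mem n (h1 ▸ Q.asIdeal.zero_mem)
  haveI := Ideal.map_isPrime_of_surjective (F.π_surj (op U)) hle
  refine ⟨⟨Q.asIdeal.map (F.π (op U)).hom, inferInstance⟩, PrimeSpectrum.ext ?_⟩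
  show Ideal.comap (F.π (op U)).hom (Ideal.map (F.π (op U)).hom Q.asIdeal) = Q.asIdeal
  rw [Ideal.comap_map_of_surjective' _ (F.π_surj (op U))]
  exact sup_eq_left.mpr hle

theorem incl_nat {U V : Sub P} (h : V ⟶ U) :
    Spec.map (oMap (homOfLE h.le : V.1 ⟶ U.1)) ≫ F.incl U = F.incl V ≫ F.diag.map h := by
  show _ = Spec.map _ ≫ Spec.map _
  rw [incl, ← Spec.map_comp, ← Spec.map_comp]
  exact congrArg Spec.map (F.π_nat h).symm

variable [hP : Fact (IsSub P)]

/-- The chart of an affine open. -/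
abbrev fs (U : Sub P) : Spec Γ(X, U.1.toOpens) ⟶ X := Fam.fs U.1

theorem fromSpec_nat {U V : Sub P} (h : V ⟶ U) :
    Spec.map (oMap (homOfLE h.le : V.1 ⟶ U.1)) ≫ fs U = fs V :=
  Fam.fromSpec_nat (homOfLE h.le : V.1 ⟶ U.1)

theorem exists_map_eq {U₁ U₂ W : Sub P} (h₁ : W ⟶ U₁) (h₂ : W ⟶ U₂)
    {z₁ : Spec Γ(X, U₁.1.toOpens)} {z₂ : Spec Γ(X, U₂.1.toOpens)} (e : fs U₁ z₁ = fs U₂ z₂)
    (hp : fs U₁ z₁ ∈ W.1.toOpens) :
    ∃ w, F.diag.map h₁ w = F.incl U₁ z₁ ∧ F.diag.map h₂ w = F.incl U₂ z₂ := by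
  obtain ⟨z, hz⟩ : ∃ z, fs W z = fs U₁ z₁ := by
    rw [← Set.mem_range, Fam.range_fs]
    exact hp
  refine ⟨F.incl W z, ?_, ?_⟩
  · rw [← Scheme.Hom.comp_apply, ← incl_nat, Scheme.Hom.comp_apply]
    congr 1
    apply (fs U₁).isOpenEmbedding.injective
    rw [← Scheme.Hom.comp_apply, fromSpec_nat h₁, hz]
  · rw [← Scheme.Hom.comp_apply, ← incl_nat, Scheme.Hom.comp_apply]
    congr 1
    apply (fs U₂).isOpenEmbedding.injective
    rw [← Scheme.Hom.comp_apply, fromSpec_nat h₂, hz, e]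

theorem exists_common {U₁ U₂ : Sub P} {p : X} (h₁ : p ∈ U₁.1.toOpens) (h₂ : p ∈ U₂.1.toOpens) :
    ∃ (W : Sub P) (_ : W ⟶ U₁) (_ : W ⟶ U₂), p ∈ W.1.toOpens := by
  obtain ⟨W, f₁, f₂, hp⟩ := Fam.exists_common h₁ h₂
  exact ⟨⟨W, hP.out.down f₁.le U₁.2⟩, homOfLE f₁.le, homOfLE f₂.le, hp⟩

instance locDir : (F.diag ⋙ Scheme.forget).IsLocallyDirected where
  cond {U₁ U₂ U} h₁ h₂ w₁ w₂ e := by
    obtain ⟨z₁, rfl⟩ := (F.incl_bijective U₁).2 w₁
    obtain ⟨z₂, rfl⟩ := (F.incl_bijective U₂).2 w₂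
    have e' : F.diag.map h₁ (F.incl U₁ z₁) = F.diag.map h₂ (F.incl U₂ z₂) := e
    rw [← Scheme.Hom.comp_apply, ← Scheme.Hom.comp_apply, ← incl_nat, ← incl_nat, Scheme.Hom.comp_apply,
      Scheme.Hom.comp_apply] at e'
    have e'' := congrArg (fs U) ((F.incl_bijective U).1 e')
    rw [← Scheme.Hom.comp_apply, ← Scheme.Hom.comp_apply, fromSpec_nat h₁, fromSpec_nat h₂] at e''
    have hm : ∀ (V : Sub P) z, fs V z ∈ V.1.toOpens := fun V z => by
      have h : fs V z ∈ Set.range (fs V) := ⟨z, rfl⟩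
      rwa [Fam.range_fs] at h
    obtain ⟨W, f₁, f₂, hp⟩ := exists_common (hm U₁ z₁) (e'' ▸ hm U₂ z₂)
    obtain ⟨w, hw₁, hw₂⟩ := F.exists_map_eq f₁ f₂ e'' hp
    exact ⟨W, f₁, f₂, w, hw₁, hw₂⟩

/-- One chart over the base. -/
def toSpec (U : Sub P) : F.diag.obj U ⟶ spec A := Spec.map (F.str (op U))

theorem diag_toSpec {U V : Sub P} (h : V ⟶ U) : F.diag.map h ≫ F.toSpec U = F.toSpec V := by
  show Spec.map _ ≫ Spec.map _ = Spec.map _
  rw [← Spec.map_comp]
  exact congrArg Spec.map (F.str_nat h.op)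

/-- The cocone to the base. -/
def specCocone : Cocone F.diag where
  pt := spec A
  ι :=
    { app := F.toSpec
      naturality := fun V U h => by
        simpa using F.diag_toSpec h }

/-- The glued scheme. -/
def total : Scheme.{u} := colimit F.diag

/-- The charts. -/
def ι (U : Sub P) : F.diag.obj U ⟶ F.total := colimit.ι F.diag U

instance isOpenImmersion_ι (U : Sub P) : IsOpenImmersion (F.ι U) := by
  delta ι total
  infer_instance

/-- The structure map of the glued scheme. -/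
def f : F.total ⟶ spec A := colimit.desc F.diag F.specCocone

theorem ι_f (U : Sub P) : F.ι U ≫ F.f = F.toSpec U := colimit.ι_desc _ _

theorem w_ι {U V : Sub P} (h : V ⟶ U) : F.diag.map h ≫ F.ι U = F.ι V := colimit.w _ _

theorem exists_ι (z : F.total) : ∃ (U : Sub P) (w : F.diag.obj U), F.ι U w = z :=
  Scheme.IsLocallyDirected.ι_jointly_surjective F.diag z

theorem flat_f : Flat F.f := by
  refine IsZariskiLocalAtSource.of_openCover (P := @Flat) (Scheme.IsLocallyDirected.openCover F.diag) fun U => ?_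
  show Flat (F.ι U ≫ F.f)
  rw [ι_f]
  exact (HasRingHomProperty.Spec_iff (P := @Flat)).mpr (F.flat (op U))

theorem exists_fs (p : X) : ∃ (U : Sub P) (z : Spec Γ(X, U.1.toOpens)), fs U z = p := by
  obtain ⟨U, hp⟩ := hP.out.cover p
  refine ⟨U, ?_⟩
  rw [← Set.mem_range, Fam.range_fs]
  exact hp

/-- The opens of the subsite as a cover. -/
def cover : X.OpenCover :=
  Scheme.Cover.mkOfCovers (J := Sub P) (fun U => Spec Γ(X, U.1.toOpens)) (fun U => fs U)
    (fun p => (exists_fs p).imp fun U ⟨z, hz⟩ => ⟨z, hz⟩) fun _ => inferInstance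

theorem hom_ext_fs {Y : Scheme.{u}} {a b : X ⟶ Y} (h : ∀ U : Sub P, fs U ≫ a = fs U ≫ b) : a = b :=
  (cover (P := P)).hom_ext _ _ h

theorem exists_i : ∃ i : X ⟶ F.total, ∀ U, fs U ≫ i = F.incl U ≫ F.ι U := by
  have hcompat : ∀ U V : Sub P, pullback.fst (fs U) (fs V) ≫ F.incl U ≫ F.ι U =
      pullback.snd (fs U) (fs V) ≫ F.incl V ≫ F.ι V := by
    intro U V
    refine Scheme.hom_ext_of_forall _ _ fun q => ?_
    have hq : fs U (pullback.fst (fs U) (fs V) q) = fs V (pullback.snd (fs U) (fs V) q) := by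
      rw [← Scheme.Hom.comp_apply, ← Scheme.Hom.comp_apply, pullback.condition]
    have hm : ∀ (W : Sub P) z, fs W z ∈ W.1.toOpens := fun W z => by
      have h : fs W z ∈ Set.range (fs W) := ⟨z, rfl⟩
      rwa [Fam.range_fs] at h
    obtain ⟨W, f₁, f₂, hp⟩ := exists_common (hm U (pullback.fst (fs U) (fs V) q)) (hq ▸ hm V _)
    let t : Spec Γ(X, W.1.toOpens) ⟶ pullback (fs U) (fs V) :=
      pullback.lift (Spec.map (oMap (homOfLE f₁.le : W.1 ⟶ U.1))) (Spec.map (oMap (homOfLE f₂.le : W.1 ⟶ V.1)))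
        (by rw [fromSpec_nat f₁, fromSpec_nat f₂])
    haveI : IsOpenImmersion (t ≫ pullback.fst (fs U) (fs V) ≫ fs U) := by
      rw [pullback.lift_fst_assoc, fromSpec_nat f₁]
      infer_instance
    haveI : IsOpenImmersion t := IsOpenImmersion.of_comp t (pullback.fst (fs U) (fs V) ≫ fs U)
    refine ⟨t.opensRange, ?_, ?_⟩
    · obtain ⟨z, hz⟩ : ∃ z, fs W z = fs U (pullback.fst (fs U) (fs V) q) := by
        rw [← Set.mem_range, Fam.range_fs]
        exact hp
      refine ⟨z, (pullback.fst (fs U) (fs V) ≫ fs U).isOpenEmbedding.injective ?_⟩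
      rw [← Scheme.Hom.comp_apply, pullback.lift_fst_assoc, fromSpec_nat f₁, hz, Scheme.Hom.comp_apply]
    · rw [← cancel_epi t.isoOpensRange.hom, Scheme.Hom.isoOpensRange_hom_ι_assoc,
        Scheme.Hom.isoOpensRange_hom_ι_assoc, pullback.lift_fst_assoc, pullback.lift_snd_assoc,
        ← Category.assoc (Spec.map _), incl_nat F f₁, ← Category.assoc (Spec.map _), incl_nat F f₂, Category.assoc, Category.assoc,
        w_ι, w_ι]
  exact ⟨(cover (P := P)).glueMorphisms (fun U => F.incl U ≫ F.ι U) hcompat,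
    fun U => (cover (P := P)).ι_glueMorphisms _ hcompat U⟩

/-- The closed fibre. -/
def i : X ⟶ F.total := F.exists_i.choose

theorem fs_i (U : Sub P) : fs U ≫ F.i = F.incl U ≫ F.ι U := F.exists_i.choose_spec U

theorem preimage_opensRange (U : Sub P) : F.i ⁻¹ᵁ (F.ι U).opensRange = U.1.toOpens := by
  ext p
  show F.i p ∈ Set.range (F.ι U) ↔ p ∈ U.1.toOpens
  constructor
  · rintro ⟨w, hw⟩
    obtain ⟨V, z, rfl⟩ := exists_fs (P := P) p
    rw [← Scheme.Hom.comp_apply, fs_i, Scheme.Hom.comp_apply] at hw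
    obtain ⟨W, fU, fV, y, -, hyV⟩ := (Scheme.IsLocallyDirected.ι_eq_ι_iff F.diag).mp hw
    obtain ⟨z', rfl⟩ := (F.incl_bijective W).2 y
    rw [← Scheme.Hom.comp_apply, ← incl_nat, Scheme.Hom.comp_apply] at hyV
    rw [← (F.incl_bijective V).1 hyV, ← Scheme.Hom.comp_apply, fromSpec_nat fV]
    have h : fs W z' ∈ Set.range (fs W) := ⟨z', rfl⟩
    rw [Fam.range_fs] at h
    exact Scheme.AffineZariskiSite.toOpens_mono (show W.1 ≤ U.1 from fU.le) h
  · intro hp
    obtain ⟨z, rfl⟩ : ∃ z, fs U z = p := by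
      rw [← Set.mem_range, Fam.range_fs]
      exact hp
    exact ⟨F.incl U z, by rw [← Scheme.Hom.comp_apply, ← fs_i, Scheme.Hom.comp_apply]⟩

theorem isPullback_chart (U : Sub P) :
    IsPullback (F.incl U) (Spec.map (algR x U.1.toOpens)) (F.toSpec U) (specRes A) :=
  letI := algV x U.1.toOpens
  (isPullback_SpecMap_of_isPushout _ _ _ _ (F.ring (op U)).isPushout)

theorem i_f : F.i ≫ F.f = x ≫ specRes A := by
  refine hom_ext_fs (P := P) fun U => ?_
  rw [← Category.assoc, fs_i, Category.assoc, ι_f, ← Category.assoc, ← specMap_algR]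
  exact (F.isPullback_chart U).w

theorem isPullback : IsPullback F.i x F.f (specRes A) := by
  let Q := pullback F.f (specRes A)
  let p₁ : Q ⟶ F.total := pullback.fst _ _
  let h : X ⟶ Q := pullback.lift F.i x F.i_f
  have hi : h ≫ p₁ = F.i := pullback.lift_fst _ _ _
  haveI : IsClosedImmersion (specRes A) := IsClosedImmersion.spec_of_surjective _ A.res_surjective
  haveI : IsClosedImmersion p₁ := MorphismProperty.pullback_fst _ _ inferInstance
  let c := fun U : Sub P => fs U ≫ h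
  have hc : ∀ U, IsPullback (c U) (F.incl U) p₁ (F.ι U) := fun U => by
    refine IsPullback.of_right ?_ ?_ (IsPullback.of_hasPullback F.f (specRes A)).flip
    · rw [F.ι_f]
      convert (F.isPullback_chart U).flip using 1
      simp [c, h, specMap_algR]
    · rw [Category.assoc, hi, fs_i]
  have hco : ∀ U, IsOpenImmersion (c U) := fun U =>
    MorphismProperty.of_isPullback (P := @IsOpenImmersion) (hc U).flip inferInstance
  have hrange : ∀ U, h ⁻¹ᵁ (c U).opensRange = U.1.toOpens := fun U => by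
    have hr : (c U).opensRange = p₁ ⁻¹ᵁ (F.ι U).opensRange := Opens.ext (by
      show Set.range (c U) = p₁ ⁻¹' Set.range (F.ι U)
      rw [← (hc U).isoPullback_hom_fst, Scheme.Hom.comp_base, TopCat.coe_comp, Set.range_comp,
        Set.range_eq_univ.mpr (hc U).isoPullback.hom.surjective, Set.image_univ]
      exact Scheme.Pullback.range_fst _ _)
    rw [hr, ← Scheme.Hom.comp_preimage, hi, preimage_opensRange]
  have hcov : ∀ y : Q, ∃ U, y ∈ Set.range (c U) := fun y => by
    obtain ⟨U, w, hw⟩ := F.exists_ι (p₁ y)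
    obtain ⟨z, hz⟩ := (F.incl_bijective U).2 w
    refine ⟨U, z, p₁.isClosedEmbedding.injective ?_⟩
    rw [← hw, ← hz, ← Scheme.Hom.comp_apply, (hc U).w, Scheme.Hom.comp_apply]
  haveI : IsIso h := by
    refine (IsZariskiLocalAtTarget.iff_of_openCover (P := MorphismProperty.isomorphisms Scheme.{u})
      (Scheme.Cover.mkOfCovers (J := Sub P) (fun U => Spec Γ(X, U.1.toOpens)) c
        (fun y => (hcov y).imp fun U ⟨z, hz⟩ => ⟨z, hz⟩) hco)).mpr fun U => ?_
    haveI := hco U
    have hp : IsPullback (fs U) (𝟙 _) h (c U) := by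
      refine (IsOpenImmersion.isPullback (𝟙 _) (fs U) (c U) h (by simp [c]) ?_).flip
      rw [hrange]
      exact (Opens.ext (Fam.range_fs U.1)).symm
    show IsIso (pullback.snd h (c U))
    rw [show pullback.snd h (c U) = hp.isoPullback.inv from by rw [← hp.isoPullback_inv_snd, Category.comp_id]]
    infer_instance
  exact IsPullback.of_iso (IsPullback.of_hasPullback F.f (specRes A)) (asIso h).symm (Iso.refl _) (Iso.refl _)
    (Iso.refl _) (by simp [h]) (by simp [h]) (by simp) (by simp)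

/-- The glued deformation. -/
def glue : DefSch X x A where
  total := F.total
  f := F.f
  flat := F.flat_f
  i := F.i
  isPullback := F.isPullback

end SFam

end Groth.Agent.DefGlueLib
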